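import Cfsg.Agent.Lib.PrimeInertia.Kill
import Cfsg.Agent.Lib.InvolRankOne.Count

/-!
# The count without normal subgroups of odd order

For a normal self-centralizing `P` with free automizer of prime order `e` the principal block has
`e + r` characters, `|P| = 1 + e r`; for a prime automizer on an elementary `P` with strongly
embedded `M` the group is `PSL(2, |P|)`, with `|P|` characters.
-/

set_option autoImplicit false
set_option linter.style.haveILetI false
set_option linter.unusedSectionVars false

namespace Cfsg.Agent.PrimeInertia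

open Cfsg Subgroup
open scoped Classical

universe u

variable {G : Type u} [Group G] [Fintype G] {P : Sylow 2 G} {I : Ideal AlgInt}
  [Fact (Nat.Prime 2)] [I.IsMaximal]

/-- The count for a normal self-centralizing `P`. -/
theorem card_of_normal_prime (hI : IsPModular 2 I)
    (hab : ∀ a ∈ (P : Subgroup G), ∀ b ∈ (P : Subgroup G), a * b = b * a)
    (hfree : ∀ g ∈ normalizer ((P : Subgroup G) : Set G), ∀ x ∈ (P : Subgroup G), x ≠ 1 →
      g * x = x * g → g ∈ centralizer ((P : Subgroup G) : Set G))
    (hn : (P : Subgroup G).Normal)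
    (hC : centralizer ((P : Subgroup G) : Set G) = (P : Subgroup G))
    {e r : ℕ} (hp : e.Prime) (he : (P : Subgroup G).index = e)
    (hr : Nat.card (P : Subgroup G) = 1 + e * r) :
    Nat.card (principalBlock I G) = e + r := by
  haveI := hn
  have hall : ∀ χ : IrrCharacter G, χ ∈ principalBlock I G := fun χ =>
    BlockCount.mem_principalBlock_of_centralizer_le hI P.2 hC.le χ
  rw [Nat.card_congr (Equiv.subtypeUnivEquiv hall), Nat.card_eq_fintype_card]
  have hv : ∀ χ : IrrCharacter G, Char.degree χ = 1 ∨ Char.degree χ = e := fun χ =>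
    (Nat.dvd_prime hp).1 (he ▸ Char.degree_dvd_index_of_comm (P : Subgroup G) hab χ)
  -- the derived group is `P`
  have hD : commutator G = (P : Subgroup G) := by
    refine le_antisymm ?_ ?_
    · haveI : Fact e.Prime := ⟨hp⟩
      haveI : IsCyclic (G ⧸ (P : Subgroup G)) :=
        isCyclic_of_prime_card (p := e) (by rw [← index_eq_card, he])
      letI := IsCyclic.commGroup (α := G ⧸ (P : Subgroup G))
      exact Normal.quotient_commutative_iff_commutator_le.1 ⟨⟨mul_comm⟩⟩
    · obtain ⟨n, hnP⟩ : ∃ n : G, n ∉ (P : Subgroup G) := by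
        by_contra h
        push Not at h
        rw [(eq_top_iff' _).2 h, index_top] at he
        exact hp.ne_one he.symm
      have hmem : ∀ x ∈ (P : Subgroup G), n * x * n⁻¹ * x⁻¹ ∈ (P : Subgroup G) := fun x hx =>
        mul_mem (hn.conj_mem x hx n) (inv_mem hx)
      let f : ↥(P : Subgroup G) → ↥(P : Subgroup G) := fun x => ⟨_, hmem x x.2⟩
      have hinj : Function.Injective f := by
        intro x y hxy
        by_contra hne
        have h : n * (x : G) * n⁻¹ * (x : G)⁻¹ = n * (y : G) * n⁻¹ * (y : G)⁻¹ :=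
          congrArg Subtype.val hxy
        have hyx : (y : G)⁻¹ * x ≠ 1 := fun h1 => hne (Subtype.ext (inv_mul_eq_one.1 h1).symm)
        have hz : n * ((y : G)⁻¹ * x) = (y : G)⁻¹ * x * n := by
          have hc := hab _ (hn.conj_mem _ x.2 n) _ (inv_mem y.2)
          calc n * ((y : G)⁻¹ * x) = (n * (y : G)⁻¹ * n⁻¹) * (n * x * n⁻¹) * n := by group
            _ = (n * (y : G)⁻¹ * n⁻¹) * (n * (y : G) * n⁻¹ * (y : G)⁻¹ * x) * n := by
              rw [← h]; group
            _ = (y : G)⁻¹ * x * n := by group
        exact hnP (hC.le (hfree n (by rw [normalizer_eq_top_iff.2 hn]; exact mem_top n) _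
          (mul_mem (inv_mem y.2) x.2) hyx hz))
      intro x hx
      obtain ⟨⟨y, hy⟩, hxy⟩ := (Finite.injective_iff_surjective.1 hinj) ⟨x, hx⟩
      have hxy' : n * y * n⁻¹ * y⁻¹ = x := congrArg Subtype.val hxy
      rw [← hxy', ← commutatorElement_def, _root_.commutator_def]
      exact Subgroup.commutator_mem_commutator (mem_top _) (mem_top _)
  set a := (Finset.univ.filter fun χ : IrrCharacter G => Char.degree χ = 1).card with hadef
  set b := (Finset.univ.filter fun χ : IrrCharacter G => Char.degree χ = e).card with hbdef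
  have ha : a = e := by
    rw [← he, ← hD, ← Char.card_linear, Nat.card_eq_fintype_card, Fintype.card_subtype, hadef]
    exact congrArg Finset.card (Finset.filter_congr fun χ _ => by
      rw [Char.apply_one_eq_degree, Nat.cast_eq_one])
  have hne : ∀ χ : IrrCharacter G, Char.degree χ = e → Char.degree χ ≠ 1 := fun χ h h' =>
    hp.ne_one (h.symm.trans h')
  have h1 : Fintype.card (IrrCharacter G) = a + b := by
    rw [← Finset.card_univ, Finset.card_eq_sum_ones]
    simp only [hadef, hbdef, Finset.card_filter, ← Finset.sum_add_distrib]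
    refine Finset.sum_congr rfl fun χ _ => ?_
    rcases hv χ with h | h
    · simp [h, hp.ne_one.symm]
    · simp [h, hp.ne_one]
  have h2 : ∑ χ : IrrCharacter G, Char.degree χ ^ 2 = a + e * e * b := by
    simp only [hadef, hbdef, Finset.card_filter, Finset.mul_sum, ← Finset.sum_add_distrib]
    refine Finset.sum_congr rfl fun χ _ => ?_
    rcases hv χ with h | h
    · simp [h, hp.ne_one.symm]
    · simp [h, hp.ne_one, pow_two]
  have hsum := Char.sum_degree_sq (G := G)
  rw [h2, ← (P : Subgroup G).card_mul_index, he, hr, ha] at hsum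
  have hb : b = r := by
    refine Nat.eq_of_mul_eq_mul_left (Nat.mul_pos hp.pos hp.pos) ?_
    linarith
  rw [h1, ha, hb]

end Cfsg.Agent.PrimeInertia

namespace Cfsg.Agent.InvolRankOne

open Cfsg Subgroup
open scoped Classical

universe u

variable {G : Type u} [Group G] [Fintype G]

namespace Setup

variable {P : Sylow 2 G} (S : Setup P) {I : Ideal AlgInt} [Fact (Nat.Prime 2)] [I.IsMaximal]
include S

/-- The count for a prime automizer without normal subgroups of odd order, when `M` is proper. -/
theorem card_of_prime (hO : ∀ K : Subgroup G, K.Normal → Odd (Nat.card K) → K = ⊥)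
    (hI : IsPModular 2 I) (hp : (PrimeInertia.ind P).Prime) (hMt : InvolRankOne.M P ≠ ⊤) :
    Nat.card (principalBlock I G) = Nat.card (P : Subgroup G) := by
  have hpM : PrimeInertia.M P ≠ ⊤ := by rw [S.prime_M_eq]; exact hMt
  have hT : Transitive P := fun a ha ha1 b hb hb1 =>
    S.toPrime.transitive hpM (S.omega_eq_self.ge ha) ha1 (S.omega_eq_self.ge hb) hb1
  have he : PrimeInertia.ind P + 1 = Nat.card (P : Subgroup G) := by
    have := S.toPrime.card_omega hpM
    rw [S.omega_eq_self] at this
    exact this.symm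
  have hW : W P = ⊥ := by
    obtain ⟨k, hk⟩ := IsPGroup.iff_card.1 P.2
    have h8 := S.big
    rw [hk] at h8
    have hk3 : 3 ≤ k := (Nat.pow_le_pow_iff_right (Nat.one_lt_two)).1 (show 2 ^ 3 ≤ 2 ^ k from h8)
    by_cases hk4 : k = 4
    · exfalso
      rw [show PrimeInertia.ind P = 15 by rw [hk, hk4] at he; omega] at hp
      norm_num at hp
    by_cases hk5 : 5 ≤ k
    · exact S.W_eq_bot_of_prime hO hMt hp hT
        (hk ▸ le_trans (by norm_num) (Nat.pow_le_pow_right two_pos hk5))
    · have hq : Nat.card (P : Subgroup G) = 8 := by rw [hk, show k = 3 by omega]; rfl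
      exact S.W_eq_bot (Or.inl hq) (by
        show _ ≤ PrimeInertia.ind P
        omega) hO hT hI hMt
  have hC : ∀ {a : G}, a ∈ (P : Subgroup G) → a ≠ 1 →
      centralizer ({a} : Set G) = (P : Subgroup G) := fun ha ha1 => by
    rw [S.C_eq ha ha1, eq_bot_iff.2 ((S.O_le_W ha ha1).trans hW.le), bot_sup_eq]
  have hncyc : ¬ IsCyclic (P : Subgroup G) := fun h => by
    obtain ⟨g, hg⟩ := h.exists_generator
    have h1 : Nat.card (P : Subgroup G) ≤ 2 := by
      rw [← Nat.card_congr (Equiv.subtypeUnivEquiv hg), Nat.card_zpowers]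
      exact Nat.le_of_dvd two_pos (orderOf_dvd_of_pow_eq_one (Subtype.ext (by
        rw [pow_two]; exact S.sq g g.2)))
    have := S.big
    omega
  obtain ⟨F, hF, hF', hcard, ⟨e'⟩⟩ := S1230.result P hncyc (fun hn => hMt (by
    rw [InvolRankOne.M, hW, bot_sup_eq]
    exact normalizer_eq_top_iff.2 hn)) fun t ht => by
    obtain ⟨Q, hQ⟩ := (IsPGroup.of_card (n := 1) (by
      rw [Nat.card_zpowers, ht, pow_one]) : IsPGroup 2 (zpowers t)).exists_le_sylow
    obtain ⟨g, hg⟩ := MulAction.exists_smul_eq G Q P
    have ha : g * t * g⁻¹ ∈ (P : Subgroup G) := by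
      rw [← hg]; exact ⟨t, hQ (mem_zpowers t), rfl⟩
    have ha1 : g * t * g⁻¹ ≠ 1 := fun h => by
      rw [conj_eq_one_iff.1 h, orderOf_one] at ht
      exact absurd ht (by norm_num)
    have hmem : ∀ c ∈ centralizer ({t} : Set G), g * c * g⁻¹ ∈ (P : Subgroup G) := fun c hc => by
      rw [← hC ha ha1, mem_centralizer_singleton_iff]
      have h := mem_centralizer_singleton_iff.1 hc
      calc g * c * g⁻¹ * (g * t * g⁻¹) = g * (c * t) * g⁻¹ := by group
        _ = g * (t * c) * g⁻¹ := by rw [h]
        _ = g * t * g⁻¹ * (g * c * g⁻¹) := by group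
    refine ⟨⟨⟨fun c c' => Subtype.ext ?_⟩⟩, fun c hc => ?_⟩
    · have h := S.comm (hmem c c.2) (hmem c' c'.2)
      rw [show g * c.1 * g⁻¹ * (g * c'.1 * g⁻¹) = g * (c.1 * c'.1) * g⁻¹ by group,
        show g * c'.1 * g⁻¹ * (g * c.1 * g⁻¹) = g * (c'.1 * c.1) * g⁻¹ by group] at h
      exact mul_left_cancel (mul_right_cancel h)
    · have h := S.sq _ (hmem c hc)
      rw [show g * c * g⁻¹ * (g * c * g⁻¹) = g * (c * c) * g⁻¹ by group, conj_eq_one_iff] at h
      rw [pow_two, h]
  exact S.card_of_psl hI hcard e' fun a ha ha1 =>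
    eq_bot_iff.2 ((S.O_le_W ha ha1).trans hW.le)

end Setup

end Cfsg.Agent.InvolRankOne
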