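import Cfsg.Agent.Lib.PrimeInertia.Frame
import Cfsg.Agent.Lib.InvolRankOne.Structure
import Cfsg.Agent.Lib.BlockCount.Inverted

/-!
# An elementary Sylow subgroup: overgroups of `W`

A subgroup containing `W` and two involutions of `P` lies in `M` or contains it.
-/

set_option autoImplicit false
set_option linter.style.haveILetI false
set_option linter.unusedSectionVars false

namespace Cfsg.Agent.InvolRankOne

open Cfsg Subgroup
open scoped Pointwise Classical

universe u

variable {G : Type u} [Group G]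

namespace Setup

variable {P : Sylow 2 G} (S : Setup P)
include S

theorem toPrime : PrimeInertia.Setup P where
  comm _ ha _ hb := S.comm ha hb
  free := S.free
  big := by
    rw [show PrimeInertia.omega P = (P : Subgroup G) from le_antisymm PrimeInertia.omega_le
      fun x hx => PrimeInertia.mem_omega_of_sq hx (S.sq x hx)]
    exact S.big

theorem omega_eq_self : PrimeInertia.omega P = (P : Subgroup G) :=
  le_antisymm PrimeInertia.omega_le fun x hx => PrimeInertia.mem_omega_of_sq hx (S.sq x hx)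

theorem prime_W_eq : PrimeInertia.W P = W P := by
  refine le_antisymm (iSup_le fun b => ?_) (iSup_le fun b => ?_)
  · exact le_iSup (fun a : {a : G // a ∈ (P : Subgroup G) ∧ a ≠ 1} => O (a : G))
      ⟨b, PrimeInertia.omega_le b.2.1, b.2.2⟩
  · exact le_iSup (fun a : {a : G // a ∈ PrimeInertia.omega P ∧ a ≠ 1} => PrimeInertia.O (a : G))
      ⟨b, S.omega_eq_self.ge b.2.1, b.2.2⟩

theorem prime_M_eq : PrimeInertia.M P = M P := by
  rw [PrimeInertia.M, M, S.prime_W_eq]

variable [Finite G]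

theorem mem_M_of_conj (hM : M P ≠ ⊤) {s g : G} (hs : s ∈ M P) (hs2 : orderOf s = 2)
    (hg : g * s * g⁻¹ ∈ M P) : g ∈ M P := by
  rw [← S.prime_M_eq] at hM hs hg ⊢
  exact S.toPrime.mem_of_conj_mem hM hs hs2 hg

theorem cent_le_sup {a : G} (ha : a ∈ (P : Subgroup G)) (ha1 : a ≠ 1) :
    centralizer ({a} : Set G) ≤ W P ⊔ (P : Subgroup G) := by
  rw [S.C_eq ha ha1]
  exact sup_le_sup_right (S.O_le_W ha ha1) _

/-- An element of the normalizer outside the centralizer generates modulo it. -/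
theorem normalizer_le_of_prime (hp : (PrimeInertia.ind P).Prime) {K : Subgroup G}
    (hC : centralizer ((P : Subgroup G) : Set G) ≤ K) {m : G}
    (hm : m ∈ normalizer ((P : Subgroup G) : Set G))
    (hmC : m ∉ centralizer ((P : Subgroup G) : Set G)) (hmK : m ∈ K) :
    normalizer ((P : Subgroup G) : Set G) ≤ K := by
  have hle : (centralizer ((P : Subgroup G) : Set G)).subgroupOf
      (normalizer ((P : Subgroup G) : Set G)) ≤ K.subgroupOf (normalizer ((P : Subgroup G) : Set G)) :=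
    fun x hx => hC hx
  have h1 : (K.subgroupOf (normalizer ((P : Subgroup G) : Set G))).index ∣ PrimeInertia.ind P :=
    index_dvd_of_le hle
  intro n hn
  rcases (Nat.dvd_prime hp).1 h1 with h | h
  · have := index_eq_one.1 h
    exact mem_subgroupOf.1 (this.symm ▸ mem_top (⟨n, hn⟩ : normalizer ((P : Subgroup G) : Set G)))
  · exfalso
    have h2 := relIndex_mul_index hle
    rw [h, show ((centralizer ((P : Subgroup G) : Set G)).subgroupOf
      (normalizer ((P : Subgroup G) : Set G))).index = PrimeInertia.ind P from rfl] at h2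
    have h3 := relIndex_eq_one.1 (Nat.eq_of_mul_eq_mul_right hp.pos (h2.trans (one_mul _).symm))
    exact hmC (mem_subgroupOf.1 (h3 (show (⟨m, hm⟩ : normalizer ((P : Subgroup G) : Set G)) ∈
      K.subgroupOf (normalizer ((P : Subgroup G) : Set G)) from hmK)))

/-- A subgroup containing `W` and two involutions of `P` is in `M` or contains it. -/
theorem le_M_or_M_le (hM : M P ≠ ⊤) (hp : (PrimeInertia.ind P).Prime) (hT : Transitive P)
    {K : Subgroup G} (hW : W P ≤ K) {a b : G} (ha : a ∈ (P : Subgroup G)) (ha1 : a ≠ 1)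
    (hb : b ∈ (P : Subgroup G)) (hb1 : b ≠ 1) (hab : a ≠ b) (haK : a ∈ K) (hbK : b ∈ K) :
    K ≤ M P ∨ M P ≤ K := by
  haveI : Fact (Nat.Prime 2) := ⟨Nat.prime_two⟩
  refine or_iff_not_imp_left.2 fun hKM => ?_
  obtain ⟨s, hsK, hsM⟩ := Set.not_subset.1 hKM
  set u := s * a * s⁻¹ with hu
  have huK : u ∈ K := mul_mem (mul_mem hsK haK) (inv_mem hsK)
  have haM := S.P_le_M ha
  have huM : u ∉ M P := fun h => hsM (S.mem_M_of_conj hM haM (S.orderOf_eq_two ha ha1) h)
  have hu2 : u * u = 1 := by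
    rw [hu, show s * a * s⁻¹ * (s * a * s⁻¹) = s * (a * a) * s⁻¹ by group, S.sq a ha]
    group
  clear_value u
  haveI := Fintype.ofFinite G
  -- every involution of `P` in `K` is conjugate to `u`
  have hconjK : ∀ c ∈ (P : Subgroup G), c ≠ 1 → c ∈ K → ∃ d ∈ K, d * c * d⁻¹ = u := by
    intro c hc hc1 hcK
    have hc2 := S.sq c hc
    set x := c * u
    have hodd : Odd (orderOf x) := by
      by_contra hev
      rw [Nat.not_odd_iff_even] at hev
      obtain ⟨j, hj⟩ := hev
      have hx0 : 0 < orderOf x := orderOf_pos x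
      set v := x ^ j
      have hv : orderOf v = 2 := by
        rw [orderOf_pow' _ (by omega), Nat.gcd_eq_right ⟨2, by omega⟩, hj, ← two_mul,
          Nat.mul_div_cancel _ (by omega)]
      have hvv : v * v = 1 := by rw [← pow_two, ← hv, pow_orderOf_eq_one]
      have hvinv : v⁻¹ = v := inv_eq_of_mul_eq_one_right hvv
      have hcv : c * v * c⁻¹ = v := by
        rw [← conj_pow, show c * x * c⁻¹ = x⁻¹ by
          simp only [x, mul_inv_rev, inv_eq_of_mul_eq_one_right hc2, inv_eq_of_mul_eq_one_right hu2]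
          rw [← mul_assoc, hc2, one_mul], inv_pow]
        exact hvinv
      have huv : u * v * u⁻¹ = v := by
        rw [← conj_pow, show u * x * u⁻¹ = x⁻¹ by
          simp only [x, mul_inv_rev, inv_eq_of_mul_eq_one_right hc2, inv_eq_of_mul_eq_one_right hu2]
          rw [mul_assoc, mul_assoc, hu2, mul_one], inv_pow]
        exact hvinv
      have hvM : v ∈ M P := S.C_le_M hc hc1
        (mem_centralizer_singleton_iff.2 (mul_inv_eq_iff_eq_mul.1 hcv).symm)
      exact huM (S.mem_M_of_conj hM hvM hv (by rw [huv]; exact hvM))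
    have hxK : zpowers x ≤ K := zpowers_le.2 (mul_mem hcK huK)
    obtain ⟨d, hd, he⟩ := BlockCount.exists_conj_eq_of_coset
      (H := zpowers x) (by rw [Nat.card_zpowers]; exact hodd) hc2 (mem_zpowers x)
      (by
        have hcx : c * x = u := by simp only [x]; rw [← mul_assoc, hc2, one_mul]
        rw [hcx, hu2])
    refine ⟨d, hxK hd, he.trans ?_⟩
    simp only [x]
    rw [← mul_assoc, hc2, one_mul]
  obtain ⟨d, hd, hda⟩ := hconjK a ha ha1 haK
  obtain ⟨d', hd', hdb⟩ := hconjK b hb hb1 hbK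
  set k := d'⁻¹ * d
  have hk : k ∈ K := mul_mem (inv_mem hd') hd
  have hkab : k * a * k⁻¹ = b := by
    simp only [k]
    rw [show d'⁻¹ * d * a * (d'⁻¹ * d)⁻¹ = d'⁻¹ * (d * a * d⁻¹) * d' by group, hda, ← hdb]
    group
  -- `P ⊓ K` is a Sylow subgroup of `K`
  set Rg := (P : Subgroup G) ⊓ K
  have hR : IsPGroup 2 (Rg.subgroupOf K) :=
    IsPGroup.comap_of_injective (P.2.to_le inf_le_left) K.subtype Subtype.val_injective
  obtain ⟨Q, hQ⟩ := hR.exists_le_sylow
  have hQP : ∀ x : K, x ∈ (Q : Subgroup K) → (x : G) ∈ centralizer ({a} : Set G) := by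
    intro x hx
    obtain ⟨R', hR'⟩ := (Q.2.map K.subtype).exists_le_sylow
    obtain ⟨g, hg⟩ := MulAction.exists_smul_eq G P R'
    have hcm : ∀ y z : G, y ∈ (R' : Subgroup G) → z ∈ (R' : Subgroup G) → y * z = z * y := by
      rw [← hg]
      rintro _ _ ⟨y, hy, rfl⟩ ⟨z, hz, rfl⟩
      show MulAut.conj g y * MulAut.conj g z = MulAut.conj g z * MulAut.conj g y
      rw [← map_mul, ← map_mul, S.comm hy hz]
    refine mem_centralizer_singleton_iff.2 (hcm _ _ (hR' ⟨x, hx, rfl⟩) (hR' ⟨⟨a, haK⟩, hQ ?_, rfl⟩))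
    exact mem_subgroupOf.2 (mem_inf.2 ⟨ha, haK⟩)
  have hQle : (Q : Subgroup K) = Rg.subgroupOf K := by
    set Ca := centralizer ({a} : Set G)
    have hQCa : IsPGroup 2 (((Q : Subgroup K).map K.subtype).subgroupOf Ca) :=
      IsPGroup.comap_of_injective (Q.2.map K.subtype) Ca.subtype Subtype.val_injective
    obtain ⟨R', hR'⟩ := hQCa.exists_le_sylow
    obtain ⟨o, ho⟩ := MulAction.exists_smul_eq Ca R' (P.subtype (S.le_cent ha))
    obtain ⟨y, hy, e, he, hye⟩ := S.exists_decomp ha ha1 (inv_mem o.2)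
    have hyK : y ∈ K := hW (S.O_le_W ha ha1 hy)
    have hmap : ((Q : Subgroup K).map (MulAut.conj (⟨y, hyK⟩⁻¹ : K)).toMonoidHom) ≤
        Rg.subgroupOf K := by
      rintro _ ⟨x, hx, rfl⟩
      refine mem_subgroupOf.2 (mem_inf.2 ⟨?_, SetLike.coe_mem _⟩)
      have h1 : (MulAut.conj o) (⟨(x : G), hQP x hx⟩ : Ca) ∈
          ((o • R' : Sylow 2 Ca) : Subgroup Ca) :=
        ⟨⟨(x : G), hQP x hx⟩, hR' ⟨x, hx, rfl⟩, rfl⟩
      rw [ho] at h1
      have h2 : (o : G) * x * (o : G)⁻¹ ∈ (P : Subgroup G) := h1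
      have h3 := mul_mem (mul_mem he h2) (inv_mem he)
      rw [show e * ((o : G) * x * (o : G)⁻¹) * e⁻¹ = (e * (o : G)) * x * (e * o)⁻¹ by group,
        show e * (o : G) = y⁻¹ by
          have : (o : G) = (y * e)⁻¹ := by rw [hye]; simp
          rw [this]
          group] at h3
      simpa using h3
    refine (eq_of_le_of_card_ge hQ ?_).symm
    rw [← card_map_of_injective (f := (MulAut.conj (⟨y, hyK⟩⁻¹ : K)).toMonoidHom)
      (MulAut.conj _).injective]
    exact card_le_of_le hmap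
  -- Burnside inside `K`
  haveI : IsMulCommutative (Q : Subgroup K) := ⟨⟨fun x y => by
    obtain ⟨x, hx⟩ := x
    obtain ⟨y, hy⟩ := y
    rw [hQle] at hx hy
    exact Subtype.ext (Subtype.ext (S.comm (mem_inf.1 (mem_subgroupOf.1 hx)).1
      (mem_inf.1 (mem_subgroupOf.1 hy)).1))⟩⟩
  obtain ⟨n, hn, hne⟩ := Sylow.conj_eq_normalizer_conj_of_mem Q (⟨a, haK⟩ : K) (⟨k, hk⟩⁻¹)
    (hQ (mem_subgroupOf.2 (mem_inf.2 ⟨ha, haK⟩)))
    (by
      rw [inv_inv]
      refine hQ (mem_subgroupOf.2 (mem_inf.2 ⟨?_, SetLike.coe_mem _⟩))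
      push_cast
      rw [hkab]
      exact hb)
  have hnab : (n : G)⁻¹ * a * n = b := by
    have := congrArg Subtype.val hne
    push_cast at this
    rw [← this, inv_inv, hkab]
  have hnR : ∀ z ∈ Rg, (n : G) * z * (n : G)⁻¹ ∈ Rg ∧ (n : G)⁻¹ * z * n ∈ Rg := by
    intro z hz
    have hzQ : (⟨z, hz.2⟩ : K) ∈ (Q : Subgroup K) := hQle.ge (mem_subgroupOf.2 hz)
    constructor
    · exact mem_subgroupOf.1 (hQle.le ((mem_normalizer_iff.1 hn _).1 hzQ))
    · exact mem_subgroupOf.1 (hQle.le ((mem_normalizer_iff''.1 hn _).1 hzQ))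
  have hPR : (P : Subgroup G) ≤ centralizer (Rg : Set G) := fun t ht =>
    mem_centralizer_iff.2 fun z hz => S.comm hz.1 ht
  have hnP : (((n : G) • P : Sylow 2 G) : Subgroup G) ≤ centralizer (Rg : Set G) := by
    rintro _ ⟨t, ht, rfl⟩
    refine mem_centralizer_iff.2 fun z hz => ?_
    have h := S.comm (hnR z hz).2.1 ht
    show z * ((n : G) * t * (n : G)⁻¹) = (n : G) * t * (n : G)⁻¹ * z
    calc z * ((n : G) * t * (n : G)⁻¹) = (n : G) * (((n : G)⁻¹ * z * n) * t) * (n : G)⁻¹ := by group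
      _ = (n : G) * (t * ((n : G)⁻¹ * z * n)) * (n : G)⁻¹ := by rw [h]
      _ = (n : G) * t * (n : G)⁻¹ * z := by group
  obtain ⟨c, hc⟩ := MulAction.exists_smul_eq (centralizer (Rg : Set G))
    (((n : G) • P : Sylow 2 G).subtype hnP) (P.subtype hPR)
  rw [Sylow.smul_subtype] at hc
  have hc' : (c : G) • ((n : G) • P) = P := Sylow.subtype_injective hc
  set m := (c : G) * (n : G)
  have hmN : m ∈ normalizer ((P : Subgroup G) : Set G) :=
    Sylow.smul_eq_iff_mem_normalizer.mp (by rw [mul_smul, hc'])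
  have hmz : ∀ z ∈ Rg, m * z * m⁻¹ = (n : G) * z * (n : G)⁻¹ := fun z hz => by
    have h := mem_centralizer_iff.1 c.2 _ (hnR z hz).1
    simp only [m]
    calc (c : G) * n * z * ((c : G) * n)⁻¹ = (c : G) * ((n : G) * z * (n : G)⁻¹) * (c : G)⁻¹ := by group
      _ = (n : G) * z * (n : G)⁻¹ * (c : G) * (c : G)⁻¹ := by rw [h]
      _ = (n : G) * z * (n : G)⁻¹ := by group
  have hmC : m ∉ centralizer ((P : Subgroup G) : Set G) := fun h => by
    refine hab ?_
    have h1 := hmz b ⟨hb, hbK⟩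
    rw [← mem_centralizer_iff.1 h b hb, mul_inv_cancel_right, ← hnab] at h1
    have h2 : (n : G)⁻¹ * a * n = a := by rw [h1]; group
    rw [← h2, hnab]
  -- so the normalizer stabilizes `P ⊓ K`
  set St := normalizer (Rg : Set G)
  have hStC : centralizer ((P : Subgroup G) : Set G) ≤ St := fun g hg =>
    mem_normalizer_iff.2 fun z => ⟨fun hz => by
      rwa [← mem_centralizer_iff.1 hg z hz.1, mul_inv_cancel_right], fun hz => by
      have h1 := mem_centralizer_iff.1 hg _ hz.1
      have : g * z * g⁻¹ = z := by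
        have h2 := mul_left_cancel (a := g) (h1.symm.trans (by group) :
          g * (g * z * g⁻¹) = g * z)
        exact h2
      rwa [this] at hz⟩
  have hmSt : m ∈ St := mem_normalizer_iff.2 fun z => ⟨fun hz => by
    rw [hmz z hz]; exact (hnR z hz).1, fun hz => by
    have h1 := hmz _ (hnR _ hz).2
    rw [show (n : G) * ((n : G)⁻¹ * (m * z * m⁻¹) * n) * (n : G)⁻¹ = m * z * m⁻¹ by group,
      mul_left_inj, mul_right_inj] at h1
    rw [← h1]
    exact (hnR _ hz).2⟩
  have hNSt := S.normalizer_le_of_prime hp hStC hmN hmC hmSt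
  have hPK : (P : Subgroup G) ≤ K := fun x hx => by
    by_cases hx1 : x = 1
    · rw [hx1]; exact one_mem _
    obtain ⟨g, hg, rfl⟩ := hT a ha ha1 x hx hx1
    exact ((mem_normalizer_iff.1 (hNSt hg) a).1 ⟨ha, haK⟩).2
  have hCK : centralizer ((P : Subgroup G) : Set G) ≤ K :=
    (centralizer_le (Set.singleton_subset_iff.2 ha)).trans
      ((S.cent_le_sup ha ha1).trans (sup_le hW hPK))
  have hmK : m ∈ K := by
    refine mul_mem (hCK ?_) n.2
    refine mem_centralizer_iff.2 fun z hz => mem_centralizer_iff.1 c.2 z ⟨hz, hPK hz⟩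
  exact sup_le hW (S.normalizer_le_of_prime hp hCK hmN hmC hmK)

end Setup

end Cfsg.Agent.InvolRankOne
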