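import Cfsg.Agent.Lib.PrimeInertia.Orbit
import Cfsg.Agent.Lib.DefectOne.Shape
import Cfsg.Agent.Lib.BlockCount.Involve
import Cfsg.Agent.Lib.Char.Linear
import Cfsg.Agent.Lib.CharInt.Kazarin
import Mathlib.GroupTheory.FiniteAbelian.Duality

/-!
# The Sylow subgroup is elementary

If `M` is proper and `P` has an element of order four, there are exceptional characters at a
linear character `μ` trivial and `ν` nontrivial on the involutions.  The difference of the induced
characters is their signed difference, its class multiplication sum at involutions gives their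
degree `|G : W P|`, so `μ` induces irreducibly; but its inner norm exceeds one.
-/

set_option autoImplicit false
set_option linter.style.haveILetI false
set_option linter.unusedSectionVars false

namespace Cfsg.Agent.PrimeInertia

open Cfsg Subgroup
open scoped Pointwise Classical ComplexConjugate

universe u

variable {G : Type u} [Group G] [Fintype G] {P : Sylow 2 G}

theorem exists_hom_separate {A : Type u} [Group A] [Finite A] (hA : ∀ a b : A, a * b = b * a)
    (K : Subgroup A) {a : A} (ha : a ∉ K) :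
    ∃ lam : A →* ℂ, (∀ x ∈ K, lam x = 1) ∧ lam a ≠ 1 := by
  letI : CommGroup A := { (inferInstance : Group A) with mul_comm := hA }
  have ha' : (a : A ⧸ K) ≠ 1 := fun h => ha ((QuotientGroup.eq_one_iff a).1 h)
  obtain ⟨φ, hφ⟩ := CommGroup.exists_apply_ne_one_of_hasEnoughRootsOfUnity (A ⧸ K) ℂ ha'
  refine ⟨((Units.coeHom ℂ).comp φ).comp (QuotientGroup.mk' K), fun x hx => ?_, ?_⟩
  · show ((φ (x : A ⧸ K) : ℂˣ) : ℂ) = 1
    rw [(QuotientGroup.eq_one_iff x).2 hx, map_one, Units.val_one]
  · show ((φ (a : A ⧸ K) : ℂˣ) : ℂ) ≠ 1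
    intro h
    exact hφ (Units.ext h)

namespace Setup

variable (S : Setup P)
include S

theorem nChar_eq_self_iff (hp : (ind P).Prime) {μ : IrrCharacter (P : Subgroup G)}
    (hμ : μ ≠ Char.trivialChar _) (n : normalizer ((P : Subgroup G) : Set G)) :
    DefectOne.nChar μ n = μ ↔ (n : G) ∈ centralizer ((P : Subgroup G) : Set G) := by
  have _ := hp
  have hfix : ∀ c : normalizer ((P : Subgroup G) : Set G),
      (c : G) ∈ centralizer ((P : Subgroup G) : Set G) → DefectOne.nChar μ c = μ := fun c hc =>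
    Subtype.ext (funext fun w => by
      rw [DefectOne.nChar_apply]
      refine congrArg μ.1 (Subtype.ext ?_)
      rw [DefectOne.nAct_coe, ← mem_centralizer_iff.1 hc w w.2, mul_inv_cancel_right])
  refine ⟨fun h => ?_, hfix n⟩
  have hcard := S.freeData.card_fibre (l := μ) hμ
  rw [if_pos (DefectOne.nConj_equivalence.refl μ)] at hcard
  let f : centralizer ((P : Subgroup G) : Set G) →
      {m : normalizer ((P : Subgroup G) : Set G) // DefectOne.nChar μ m = μ} := fun c =>
    ⟨⟨c, centralizer_le_normalizer_P c.2⟩, hfix _ c.2⟩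
  have hf : Function.Injective f := fun a b e =>
    Subtype.ext (congrArg (fun m : {m : normalizer ((P : Subgroup G) : Set G) // DefectOne.nChar μ m = μ} =>
      ((m.1 : normalizer ((P : Subgroup G) : Set G)) : G)) e)
  obtain ⟨c, hc⟩ := (hf.bijective_of_nat_card_le hcard.le).2 ⟨n, h⟩
  have := congrArg (fun m : {m : normalizer ((P : Subgroup G) : Set G) // DefectOne.nChar μ m = μ} =>
      ((m.1 : normalizer ((P : Subgroup G) : Set G)) : G)) hc
  simp only [f] at this
  rw [← this]
  exact c.2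

theorem sum_proj (F : ↥(P : Subgroup G) → ℂ) :
    ∑ h : H P, F (S.proj h) = (Nat.card (W P) : ℂ) * ∑ y : (P : Subgroup G), F y := by
  rw [← Finset.sum_fiberwise Finset.univ S.proj, Finset.mul_sum]
  refine Finset.sum_congr rfl fun y _ => ?_
  rw [Finset.sum_congr rfl (g := fun _ => F y) fun h hh => by rw [(Finset.mem_filter.1 hh).2],
    Finset.sum_const, nsmul_eq_mul, ← Fintype.card_subtype, ← Nat.card_eq_fintype_card, S.card_fibre]

theorem sum_P_mul_conj (l m : IrrCharacter (P : Subgroup G)) :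
    ∑ y : (P : Subgroup G), l.1 y * conj (m.1 y) =
      if l = m then (Nat.card (P : Subgroup G) : ℂ) else 0 := by
  have h := Char.classInner_irr l m
  rw [classInner, inv_mul_eq_iff_eq_mul₀ (Nat.cast_ne_zero.2 Nat.card_pos.ne')] at h
  rw [h]
  split_ifs <;> simp

theorem extend_conj_eq {x g : G} (hx : x ∈ M P) {w n : G} (hw : w ∈ W P)
    (hn : n ∈ normalizer ((P : Subgroup G) : Set G)) (he : w * n = x⁻¹)
    {f : ↥(P : Subgroup G) → ℂ} (hg : g ∈ H P) :
    extendByZero (H P) (fun h => f (S.proj h)) (x⁻¹ * g * x) =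
      f (DefectOne.nAct P ⟨n, hn⟩ (S.proj ⟨g, hg⟩)) := by
  have hmem : w * n * g * (w * n)⁻¹ ∈ H P :=
    S.conj_mem_H (mul_mem (S.W_le_M hw) (S.N_le_M hn)) hg
  have e : x⁻¹ * g * x = w * n * g * (w * n)⁻¹ := by rw [he, inv_inv]
  rw [e, Char.extendByZero_of_mem _ _ hmem]
  refine congrArg f (Subtype.ext ?_)
  rw [S.proj_conj hw hn ⟨g, hg⟩ hmem, DefectOne.nAct_coe]

theorem index_M_gt_one (hM : M P ≠ ⊤) : ∃ x : G, x ∉ M P := by
  by_contra h
  push Not at h
  exact hM (eq_top_iff.2 fun x _ => h x)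

set_option maxHeartbeats 3000000 in
/-- `P` is elementary abelian when `M` is proper. -/
theorem omega_eq (hM : M P ≠ ⊤) (hp : (ind P).Prime) : omega P = (P : Subgroup G) := by
  by_contra hne
  haveI : Fact (Nat.Prime 2) := ⟨Nat.prime_two⟩
  obtain ⟨I, hI⟩ := CharInt.exists_isPModular_of_prime Nat.prime_two
  haveI : I.IsMaximal := hI.2.1
  set e := ind P with hedef
  have he2 : 2 ≤ e := hp.two_le
  have hcard := S.card_omega hM
  have hsq := S.omega_sq_le hM hne
  rw [hcard] at hsq
  have hPbig : (e + 1) * (e + 1) ≤ Nat.card (P : Subgroup G) := hsq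
  have hFD := S.freeData
  obtain ⟨T⟩ := hFD.shape (M := I) hI.2.2 (m := e) rfl
    (lt_of_lt_of_le (by nlinarith) hPbig)
  -- `d = 0`
  obtain ⟨u, hu, hu1⟩ := S.exists_mem_omega
  set u' : (P : Subgroup G) := ⟨u, omega_le hu⟩
  have hu'1 : u' ≠ 1 := fun h => hu1 (congrArg Subtype.val h)
  have ha1 : T.a (Char.trivialChar G) = 1 := by
    have := (T.X_val _ T.trivial_mem).2 u' hu'1
    rw [Char.trivialChar_apply] at this
    exact_mod_cast this.symm
  have hd : T.d = 0 := by
    by_contra hd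
    set r := ((principalBlock I G).toFinset \ T.X).card
    have hmul : r * e + 1 = Nat.card (P : Subgroup G) := T.card_mul
    have hr : e + 2 ≤ r := by
      by_contra hlt
      have : r * e ≤ (e + 1) * e := Nat.mul_le_mul_right e (by omega)
      nlinarith
    have h1 : (1 : ℤ) ≤ ∑ χ ∈ T.X, T.a χ ^ 2 :=
      le_trans (le_of_eq (by rw [ha1]; norm_num))
        (Finset.single_le_sum (f := fun χ => T.a χ ^ 2) (fun χ _ => sq_nonneg _) T.trivial_mem)
    have h2 : (1 : ℤ) ≤ T.d ^ 2 :=
      Int.add_one_le_iff.2 (lt_of_le_of_ne (sq_nonneg _) (Ne.symm (pow_ne_zero 2 hd)))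
    have h3 := T.norm_eq
    have hr' : (e : ℤ) + 2 ≤ (r : ℤ) := by exact_mod_cast hr
    nlinarith [mul_le_mul_of_nonneg_left h2 (show (0 : ℤ) ≤ (r : ℤ) - 1 by linarith),
      sq_nonneg (T.d - T.δ)]
  -- the two linear characters
  have hab : ∀ a b : (P : Subgroup G), a * b = b * a := fun a b =>
    Subtype.ext (S.comm a a.2 b b.2)
  obtain ⟨a, haP, haO⟩ : ∃ a ∈ (P : Subgroup G), a ∉ omega P := by
    by_contra h
    push Not at h
    exact hne (le_antisymm omega_le h)
  obtain ⟨lμ, hlμ, hlμa⟩ := exists_hom_separate hab ((omega P).subgroupOf (P : Subgroup G))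
    (a := ⟨a, haP⟩) (by simpa [mem_subgroupOf] using haO)
  obtain ⟨lν, -, hlνu⟩ := exists_hom_separate hab ⊥ (a := u') (by simpa using hu'1)
  have hμΩ : ∀ t : (P : Subgroup G), (t : G) ∈ omega P → lμ t = 1 := fun t ht =>
    hlμ t (mem_subgroupOf.2 ht)
  set μ := Char.linIrr lμ with hμdef
  set ν := Char.linIrr lν with hνdef
  have hμ1 : μ ≠ Char.trivialChar _ := fun h => hlμa (congrFun (congrArg Subtype.val h) _)
  have hν1 : ν ≠ Char.trivialChar _ := fun h => hlνu (congrFun (congrArg Subtype.val h) _)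
  have hμν : ∀ n, DefectOne.nChar μ n ≠ ν := fun n h => hlνu (by
    have := congrFun (congrArg Subtype.val h) u'
    rw [DefectOne.nChar_apply, hμdef, hνdef, Char.linIrr_apply, Char.linIrr_apply,
      hμΩ _ (omega_conj_mem n.2 hu)] at this
    exact this.symm)
  have hνμ : ∀ n, DefectOne.nChar ν n ≠ μ := fun n h =>
    hμν n⁻¹ (by rw [← h, DefectOne.nChar_mul, mul_inv_cancel, DefectOne.nChar_one])
  set fμ := T.f μ
  set fν := T.f ν
  have hfne : fμ ≠ fν := fun h => by
    obtain ⟨n, hn⟩ := DefectOne.nConj_iff.1 ((T.f_eq _ _ hμ1 hν1).1 h)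
    exact hνμ n hn
  -- values on `H` outside `W`
  let orbS : IrrCharacter (P : Subgroup G) → ↥(P : Subgroup G) → ℂ := fun L y =>
    ∑ m ∈ Finset.univ.filter (fun m => DefectOne.NConj P m L), m.1 y
  have hval : ∀ L, L ≠ Char.trivialChar _ → ∀ h : H P, S.proj h ≠ 1 →
      (T.f L).1 h = (T.δ : ℂ) * orbS L (S.proj h) := fun L hL h h1 => by
    rw [S.apply_eq_proj hI.2.2 (T.f_mem L hL).1 h1, T.f_val L hL _ h1, hd, Int.cast_zero, zero_add]
  set θ : H P → ℂ := fun h => μ.1 (S.proj h) - ν.1 (S.proj h) with hθ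
  have hθ1 : ∀ h, S.proj h = 1 → θ h = 0 := fun h h1 => by
    simp [θ, h1, hμdef, hνdef]
  have hHne : (Nat.card (H P) : ℂ) ≠ 0 := Nat.cast_ne_zero.2 Nat.card_pos.ne'
  have hcard_H : (Nat.card (H P) : ℂ) = (Nat.card (W P) : ℂ) * Nat.card (P : Subgroup G) := by
    exact_mod_cast S.card_H
  set Φ := indFun (H P) θ with hΦ
  have hΦcl : IsClassFunction G Φ := Char.isClassFunction_indFun _ _
  -- its coefficients at the two exceptional characters
  have hcoef : ∀ L, L ≠ Char.trivialChar _ → classInner Φ (T.f L).1 = (T.δ : ℂ) *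
      ((if DefectOne.NConj P μ L then (1 : ℂ) else 0) -
        (if DefectOne.NConj P ν L then (1 : ℂ) else 0)) := by
    intro L hL
    rw [hΦ, Char.classInner_indFun _ _ (Blocks.irr_classFun _)]
    simp only [classInner]
    rw [Finset.sum_congr rfl (g := fun h : H P => (T.δ : ℂ) *
        ((μ.1 (S.proj h) - ν.1 (S.proj h)) * conj (orbS L (S.proj h)))) fun h _ => by
      by_cases h1 : S.proj h = 1
      · rw [hθ1 h h1]
        simp [h1, hμdef, hνdef]
      · rw [hval L hL h h1, map_mul, map_intCast]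
        simp only [θ]
        ring]
    rw [S.sum_proj fun y => (T.δ : ℂ) * ((μ.1 y - ν.1 y) * conj (orbS L y)), ← Finset.mul_sum]
    simp only [orbS, map_sum, Finset.mul_sum, sub_mul]
    rw [Finset.sum_comm]
    simp only [← Finset.mul_sum, Finset.sum_sub_distrib, S.sum_P_mul_conj]
    rw [Finset.sum_ite_eq, Finset.sum_ite_eq]
    simp only [Finset.mem_filter, Finset.mem_univ, true_and]
    rw [hcard_H]
    have : (Nat.card (W P) : ℂ) ≠ 0 := Nat.cast_ne_zero.2 Nat.card_pos.ne'
    have : (Nat.card (P : Subgroup G) : ℂ) ≠ 0 := Nat.cast_ne_zero.2 Nat.card_pos.ne'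
    split_ifs <;> field_simp <;> ring
  have hcμ : classInner Φ fμ.1 = T.δ := by
    rw [hcoef μ hμ1, if_pos (DefectOne.nConj_equivalence.refl μ), if_neg, sub_zero, mul_one]
    intro h
    obtain ⟨n, hn⟩ := DefectOne.nConj_iff.1 h
    exact hμν n hn
  have hcν : classInner Φ fν.1 = -T.δ := by
    rw [hcoef ν hν1, if_pos (DefectOne.nConj_equivalence.refl ν), if_neg, zero_sub, mul_neg, mul_one]
    intro h
    obtain ⟨n, hn⟩ := DefectOne.nConj_iff.1 h
    exact hνμ n hn
  -- its norm
  have hnorm : classInner Φ Φ = 2 := by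
    rw [show classInner Φ Φ = classInner θ (fun h : H P => Φ h) from
      Char.classInner_indFun _ _ hΦcl]
    simp only [classInner, hΦ, indFun, map_mul, map_inv₀, map_natCast, map_sum, Finset.mul_sum]
    rw [Finset.sum_comm]
    have hterm : ∀ x : G, ∑ h : H P, θ h * conj (extendByZero (H P) θ (x⁻¹ * h * x)) =
        if x ∈ H P then 2 * (Nat.card (H P) : ℂ) else 0 := by
      intro x
      by_cases hxM : x ∈ M P
      · obtain ⟨w, hw, n, hn, hwn⟩ := S.exists_decomp_M (inv_mem hxM)
        rw [Finset.sum_congr rfl (g := fun h : H P => (μ.1 (S.proj h) - ν.1 (S.proj h)) *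
            conj ((DefectOne.nChar μ ⟨n, hn⟩).1 (S.proj h) -
              (DefectOne.nChar ν ⟨n, hn⟩).1 (S.proj h))) fun h _ => by
          rw [show extendByZero (H P) θ (x⁻¹ * h * x) = _ from
            S.extend_conj_eq (f := fun y => μ.1 y - ν.1 y) hxM hw hn hwn h.2]
          rfl]
        rw [S.sum_proj fun y => (μ.1 y - ν.1 y) * conj ((DefectOne.nChar μ ⟨n, hn⟩).1 y -
              (DefectOne.nChar ν ⟨n, hn⟩).1 y)]
        simp only [map_sub, sub_mul, mul_sub, Finset.sum_sub_distrib, S.sum_P_mul_conj]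
        have hx : x ∈ H P ↔ n ∈ centralizer ((P : Subgroup G) : Set G) := by
          rw [← inv_mem_iff, ← hwn, mul_mem_cancel_left (W_le_H hw), ← S.N_inf_H, mem_inf]
          exact ⟨fun h => ⟨hn, h⟩, fun h => h.2⟩
        rw [if_neg (show μ ≠ DefectOne.nChar ν ⟨n, hn⟩ from fun h => hνμ _ h.symm),
          if_neg (show ν ≠ DefectOne.nChar μ ⟨n, hn⟩ from fun h => hμν _ h.symm), hcard_H]
        by_cases hxH : x ∈ H P
        · rw [if_pos hxH, if_pos ((S.nChar_eq_self_iff hp hμ1 _).2 (hx.1 hxH)).symm,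
            if_pos ((S.nChar_eq_self_iff hp hν1 _).2 (hx.1 hxH)).symm]
          ring
        · rw [if_neg hxH, if_neg fun h => hxH (hx.2 ((S.nChar_eq_self_iff hp hμ1 _).1 h.symm)),
            if_neg fun h => hxH (hx.2 ((S.nChar_eq_self_iff hp hν1 _).1 h.symm))]
          ring
      · rw [if_neg fun h => hxM (H_le_M h)]
        refine Finset.sum_eq_zero fun h _ => ?_
        by_cases h1 : S.proj h = 1
        · rw [hθ1 h h1, zero_mul]
        · rw [Char.extendByZero_of_notMem, map_zero, mul_zero]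
          intro hm
          refine hxM ?_
          have := S.mem_M_of_conj_mem hM h1 (g := x⁻¹) (by rw [inv_inv]; exact H_le_M hm)
          simpa using this
    rw [Finset.sum_congr rfl (g := fun x : G => (Nat.card (H P) : ℂ)⁻¹ * (Nat.card (H P) : ℂ)⁻¹ *
        if x ∈ H P then 2 * (Nat.card (H P) : ℂ) else 0) fun x _ => by
      rw [← hterm x, Finset.mul_sum]
      exact Finset.sum_congr rfl fun h _ => by ring]
    rw [← Finset.mul_sum, Finset.sum_ite, Finset.sum_const_zero, add_zero, Finset.sum_const,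
      nsmul_eq_mul, ← Fintype.card_subtype, ← Nat.card_eq_fintype_card]
    field_simp
  -- so there are no further coefficients
  have hΦeq : Φ = (T.δ : ℂ) • fμ.1 - (T.δ : ℂ) • fν.1 := by
    have hδ : (T.δ : ℂ) * T.δ = 1 := by
      rcases T.hδ with h | h <;> simp [h]
    have hp' := Char.classInner_eq_sum (f' := Φ) hΦcl
    rw [hnorm] at hp'
    have hsq : ∀ χ : IrrCharacter G, classInner Φ χ.1 * classInner χ.1 Φ =
        (Complex.normSq (classInner Φ χ.1) : ℂ) := fun χ => by
      rw [← Char.conj_classInner Φ χ.1, Complex.mul_conj]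
    simp only [hsq] at hp'
    rw [← Complex.ofReal_sum, show (2 : ℂ) = ((2 : ℝ) : ℂ) by norm_num, Complex.ofReal_inj] at hp'
    rw [← Finset.add_sum_erase _ _ (Finset.mem_univ fμ),
      ← Finset.add_sum_erase _ _ (show fν ∈ Finset.univ.erase fμ by simp [hfne.symm])] at hp'
    have hn1 : Complex.normSq (T.δ : ℂ) = 1 := by
      rcases T.hδ with h | h <;> simp [h]
    rw [hcμ, hcν, Complex.normSq_neg, hn1] at hp'
    have h0 := (Finset.sum_eq_zero_iff_of_nonneg fun χ _ => Complex.normSq_nonneg _).1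
      (show ∑ χ ∈ (Finset.univ.erase fμ).erase fν, Complex.normSq (classInner Φ χ.1) = 0 by
        linarith)
    conv_lhs => rw [Char.eq_sum_classInner_smul hΦcl]
    rw [← Finset.add_sum_erase _ _ (Finset.mem_univ fμ),
      ← Finset.add_sum_erase _ _ (show fν ∈ Finset.univ.erase fμ by simp [hfne.symm]),
      Finset.sum_eq_zero fun χ hχ => by rw [Complex.normSq_eq_zero.1 (h0 χ hχ), zero_smul],
      add_zero, hcμ, hcν, neg_smul, ← sub_eq_add_neg]
  -- values at `u`
  have hne_u : S.proj (⟨u, P_le_H (omega_le hu)⟩ : H P) = u' :=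
    Subtype.ext (S.proj_of_mem_P (omega_le hu))
  have hfμu : fμ.1 u = (T.δ : ℂ) * e := by
    have h := hval μ hμ1 ⟨u, P_le_H (omega_le hu)⟩ (by rw [hne_u]; exact hu'1)
    rw [hne_u] at h
    refine h.trans ?_
    simp only [orbS]
    rw [Finset.sum_congr rfl (g := fun _ => (1 : ℂ)) fun m hm => ?_, Finset.sum_const, nsmul_eq_mul,
      mul_one, hFD.card_orbit (m := e) rfl hμ1]
    obtain ⟨n, rfl⟩ := DefectOne.nConj_iff.1 (Finset.mem_filter.1 hm).2
    rw [DefectOne.nChar_apply, hμdef, Char.linIrr_apply]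
    exact hμΩ _ (omega_conj_mem n.2 hu)
  have hνnon : ∃ t : (P : Subgroup G), (t : G) ∈ omega P ∧ lν t ≠ 1 := ⟨u', hu, hlνu⟩
  have hfνu : fν.1 u = -(T.δ : ℂ) := by
    have h := hval ν hν1 ⟨u, P_le_H (omega_le hu)⟩ (by rw [hne_u]; exact hu'1)
    rw [hne_u] at h
    refine h.trans ?_
    rw [show orbS ν u' = -1 from ?_, mul_neg, mul_one]
    set N := normalizer ((P : Subgroup G) : Set G)
    have hsum := S.ind_mul_sum_lift hM le_rfl (S.N_le_M) hνnon hu hu1
    have hfib : ∑ n : N, S.lift lν (n * u * (n : G)⁻¹) =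
        (Nat.card (centralizer ((P : Subgroup G) : Set G)) : ℂ) * orbS ν u' := by
      rw [← Finset.sum_fiberwise Finset.univ (DefectOne.nChar ν)]
      simp only [orbS, Finset.mul_sum, Finset.sum_filter (fun m => DefectOne.NConj P m ν)]
      refine Finset.sum_congr rfl fun m _ => ?_
      rw [Finset.sum_congr rfl (g := fun _ => m.1 u') fun n hn => ?_, Finset.sum_const, nsmul_eq_mul,
        ← Fintype.card_subtype, ← Nat.card_eq_fintype_card, hFD.card_fibre hν1]
      · split_ifs <;> simp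
      · rw [← (Finset.mem_filter.1 hn).2, DefectOne.nChar_apply, hνdef, Char.linIrr_apply]
        rw [show (n : G) * u * (n : G)⁻¹ = 1 * n * u * (1 * (n : G))⁻¹ by simp,
          S.lift_conj_omega (one_mem _) n.2 hu]
        rfl
    rw [hfib] at hsum
    have hN : (Nat.card N : ℂ) = (Nat.card (centralizer ((P : Subgroup G) : Set G)) : ℂ) * e := by
      rw [hedef, ind, relIndex, ← Nat.cast_mul, ← card_mul_index
        ((centralizer ((P : Subgroup G) : Set G)).subgroupOf N),
        Nat.card_congr (subgroupOfEquivOfLe (centralizer_le_normalizer_P (P := P))).toEquiv]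
    rw [← hedef, hN] at hsum
    have hne0 : (Nat.card (centralizer ((P : Subgroup G) : Set G)) : ℂ) * e ≠ 0 :=
      mul_ne_zero (Nat.cast_ne_zero.2 Nat.card_pos.ne') (Nat.cast_ne_zero.2 (by omega))
    refine mul_left_cancel₀ hne0 ?_
    linear_combination hsum
  -- the class multiplication sum
  have hF : ∀ L : IrrCharacter G, ∑ a : G, ∑ b : G, L.1 (a * u * a⁻¹ * (b * u * b⁻¹)) =
      (Nat.card G : ℂ) ^ 2 * (L.1 u) ^ 2 / L.1 1 := fun L => by
    rw [Finset.sum_congr rfl fun a _ => BlockCount.mul_eq_sum_conj L.2 (a * u * a⁻¹) u,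
      Finset.sum_congr rfl (g := fun _ => (Nat.card G : ℂ) * L.1 u * L.1 u / L.1 1) fun a _ => by
        rw [Blocks.irr_classFun L u a], Finset.sum_const, nsmul_eq_mul, Finset.card_univ,
      ← Nat.card_eq_fintype_card]
    ring
  set E : G → ℂ := extendByZero (H P) θ with hE
  have hsumE : ∑ a : G, ∑ b : G, Φ (a * u * a⁻¹ * (b * u * b⁻¹)) =
      (Nat.card G : ℂ) * (Nat.card (H P) : ℂ)⁻¹ *
        ∑ a : G, ∑ b : G, E (a * u * a⁻¹ * (b * u * b⁻¹)) := by
    have key : ∀ x : G, ∑ a : G, ∑ b : G, E (x⁻¹ * (a * u * a⁻¹ * (b * u * b⁻¹)) * x) =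
        ∑ a : G, ∑ b : G, E (a * u * a⁻¹ * (b * u * b⁻¹)) := fun x => by
      refine Fintype.sum_equiv (Equiv.mulLeft x⁻¹) _ _ fun a => ?_
      refine Fintype.sum_equiv (Equiv.mulLeft x⁻¹) _ _ fun b => ?_
      simp only [Equiv.coe_mulLeft]
      congr 1
      group
    simp only [hΦ, indFun, ← Finset.mul_sum]
    rw [Finset.sum_congr rfl fun a _ => Finset.sum_comm, Finset.sum_comm,
      Finset.sum_congr rfl fun x _ => key x, Finset.sum_const, nsmul_eq_mul, Finset.card_univ,
      ← Nat.card_eq_fintype_card]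
    ring
  have hu2 : orderOf u = 2 := S.orderOf_omega hu hu1
  have hsuppE : ∀ a b : G, E (a * u * a⁻¹ * (b * u * b⁻¹)) ≠ 0 → a ∈ M P ∧ b ∈ M P := by
    intro a b hab'
    set s := a * u * a⁻¹ with hs
    set t := b * u * b⁻¹ with ht
    have hmem : s * t ∈ H P := by
      by_contra h
      exact hab' (Char.extendByZero_of_notMem _ _ h)
    have h1 : S.proj ⟨s * t, hmem⟩ ≠ 1 := fun h => hab' (by
      rw [hE, Char.extendByZero_of_mem _ _ hmem]; exact hθ1 _ h)
    have hss : s * s = 1 := by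
      rw [hs, show a * u * a⁻¹ * (a * u * a⁻¹) = a * (u * u) * a⁻¹ by group,
        S.sq_of_mem_omega hu]
      group
    have htt : t * t = 1 := by
      rw [ht, show b * u * b⁻¹ * (b * u * b⁻¹) = b * (u * u) * b⁻¹ by group,
        S.sq_of_mem_omega hu]
      group
    have hsM : s ∈ M P := S.mem_M_of_conj_mem hM h1 (by
      show s * (s * t) * s⁻¹ ∈ M P
      rw [show s * (s * t) * s⁻¹ = (s * s) * (t * s⁻¹) by group, hss, one_mul,
        show t * s⁻¹ = (s * t⁻¹)⁻¹ by group, inv_eq_of_mul_eq_one_right htt]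
      exact inv_mem (H_le_M hmem))
    have htM : t ∈ M P := by
      have := mul_mem (inv_mem hsM) (H_le_M hmem)
      simpa using this
    exact ⟨S.mem_of_conj_mem hM (S.P_le_M (omega_le hu)) hu2 hsM,
      S.mem_of_conj_mem hM (S.P_le_M (omega_le hu)) hu2 htM⟩
  have hEsum : ∑ a : G, ∑ b : G, E (a * u * a⁻¹ * (b * u * b⁻¹)) =
      (Nat.card (M P) : ℂ) ^ 2 * (1 - 1 / (e : ℂ) ^ 2) := by
    have hval2 : ∀ a : M P, ∀ b : M P, E (a * u * (a : G)⁻¹ * (b * u * (b : G)⁻¹)) =
        S.lift lμ (a * u * (a : G)⁻¹) * S.lift lμ (b * u * (b : G)⁻¹) -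
          S.lift lν (a * u * (a : G)⁻¹) * S.lift lν (b * u * (b : G)⁻¹) := by
      intro a b
      have ha : (a : G) * u * (a : G)⁻¹ ∈ H P := S.conj_mem_H a.2 (P_le_H (omega_le hu))
      have hb : (b : G) * u * (b : G)⁻¹ ∈ H P := S.conj_mem_H b.2 (P_le_H (omega_le hu))
      rw [hE, lift, lift, Char.extendByZero_of_mem _ _ (mul_mem ha hb),
        Char.extendByZero_of_mem _ _ ha, Char.extendByZero_of_mem _ _ hb,
        Char.extendByZero_of_mem _ _ ha, Char.extendByZero_of_mem _ _ hb]
      simp only [θ, hμdef, hνdef, Char.linIrr_apply]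
      rw [show (⟨_, mul_mem ha hb⟩ : H P) = ⟨_, ha⟩ * ⟨_, hb⟩ from rfl, map_mul, map_mul, map_mul]
    have hTν := S.ind_mul_sum_lift hM S.N_le_M le_rfl hνnon hu hu1
    rw [← hedef] at hTν
    have hout : ∀ a : G, a ∉ Finset.univ.filter (· ∈ M P) →
        ∑ b : G, E (a * u * a⁻¹ * (b * u * b⁻¹)) = 0 := fun a ha =>
      Finset.sum_eq_zero fun b _ => by
        by_contra h
        exact ha (by simp [(hsuppE a b h).1])
    rw [← Finset.sum_subset (Finset.subset_univ (Finset.univ.filter (· ∈ M P)))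
      fun a _ ha => hout a ha, Finset.sum_subtype _ (p := (· ∈ M P)) (fun x => by simp)]
    have hin : ∀ a : M P, ∑ b : G, E (a * u * (a : G)⁻¹ * (b * u * b⁻¹)) =
        ∑ b : M P, E (a * u * (a : G)⁻¹ * (b * u * (b : G)⁻¹)) := fun a => by
      rw [← Finset.sum_subset (Finset.subset_univ (Finset.univ.filter (· ∈ M P))) fun b _ hb => by
        by_contra h
        exact hb (by simp [(hsuppE a b h).2]), Finset.sum_subtype _ (p := (· ∈ M P)) (fun x => by simp)]
    simp only [hin, hval2, Finset.sum_sub_distrib, ← Finset.mul_sum, ← Finset.sum_mul]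
    rw [Finset.sum_congr rfl (g := fun _ => (1 : ℂ)) fun a _ => S.lift_conj_of_trivial hμΩ a.2 hu,
      Finset.sum_const, Finset.card_univ, nsmul_eq_mul, mul_one, ← Nat.card_eq_fintype_card]
    have he0 : (e : ℂ) ≠ 0 := Nat.cast_ne_zero.2 (by omega)
    have : ∑ a : M P, S.lift lν (a * u * (a : G)⁻¹) = -(Nat.card (M P) : ℂ) / e := by
      rw [eq_div_iff he0, mul_comm]; exact hTν
    rw [this]
    field_simp
  -- the degree
  have hdeg : (T.δ : ℂ) * (Nat.card G : ℂ) * e = (Nat.card (M P) : ℂ) * fμ.1 1 := by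
    have hagree : fν.1 1 = fμ.1 1 := T.agree fν (T.f_mem ν hν1).1 (T.f_mem ν hν1).2 fμ
      (T.f_mem μ hμ1).1 (T.f_mem μ hμ1).2 1 (by simp [IsPRegular])
    have h1 := hsumE
    rw [hEsum] at h1
    simp only [hΦeq, Pi.sub_apply, Pi.smul_apply, smul_eq_mul, Finset.sum_sub_distrib,
      ← Finset.mul_sum, hF, hfμu, hfνu, hagree] at h1
    have hG0 : (Nat.card G : ℂ) ≠ 0 := Nat.cast_ne_zero.2 Nat.card_pos.ne'
    have he0 : (e : ℂ) ≠ 0 := Nat.cast_ne_zero.2 (by omega)
    have hf0 : fμ.1 1 ≠ 0 := CharInt.irr_one_ne_zero fμ.2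
    have hM0 : (Nat.card (M P) : ℂ) ≠ 0 := Nat.cast_ne_zero.2 Nat.card_pos.ne'
    have he1 : (e : ℂ) ^ 2 - 1 ≠ 0 := by
      intro h
      have h' : (e : ℂ) ^ 2 = ((1 : ℕ) : ℂ) := by push_cast; linear_combination h
      have : e ^ 2 = 1 := by exact_mod_cast h'
      nlinarith
    have hMH : (Nat.card (M P) : ℂ) = (Nat.card (H P) : ℂ) * e := by exact_mod_cast S.card_M
    have hδ2 : (T.δ : ℂ) ^ 2 = 1 := by rcases T.hδ with h | h <;> simp [h]
    field_simp at h1
    rw [hMH] at h1 ⊢
    apply mul_left_cancel₀ (mul_ne_zero hHne he0)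
    linear_combination h1 - ((T.δ : ℂ) * (Nat.card G : ℂ) * (e : ℂ) ^ 2 *
      (Nat.card (H P) : ℂ)) * hδ2
  have hδ1 : T.δ = 1 := by
    rcases T.hδ with h | h
    · exact h
    exfalso
    rw [h, Char.apply_one_eq_degree] at hdeg
    push_cast at hdeg
    have h' : (((Nat.card (M P) * Char.degree fμ + Nat.card G * e : ℕ) : ℂ)) = 0 := by
      push_cast; linear_combination -hdeg
    rw [Nat.cast_eq_zero] at h'
    have : 0 < Nat.card G * e := Nat.mul_pos Nat.card_pos (by omega)
    omega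
  have hF1 : fμ.1 1 = ((H P).index : ℂ) := by
    rw [hδ1, Int.cast_one, one_mul] at hdeg
    refine mul_left_cancel₀ (Nat.cast_ne_zero.2 (Nat.card_pos (α := M P)).ne') ?_
    rw [← hdeg, S.index_H, ← hedef, ← card_mul_index (M P)]
    push_cast
    ring
  -- `μ` induces irreducibly
  set Λ : H P → ℂ := fun h => μ.1 (S.proj h) with hΛ
  have hΛchar : IsCharacter (H P) Λ := Char.IsCharacter.comp (Char.irr_isCharacter μ) S.proj
  set Ψ := indFun (H P) Λ with hΨ
  have hΨchar : IsCharacter G Ψ := Char.isCharacter_indFun _ hΛchar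
  obtain ⟨mult, hmult, hmc⟩ := Char.IsCharacter.exists_decomp hΨchar
  obtain ⟨z, hz⟩ := Char.IsCharacter.exists_nat_classInner
    (Char.isCharacter_indFun (H P) (θ := fun h => ν.1 (S.proj h))
      (Char.IsCharacter.comp (Char.irr_isCharacter ν) S.proj)) (Char.irr_isCharacter fμ)
  have hm1 : 1 ≤ mult fμ := by
    have h : classInner Φ fμ.1 = classInner Ψ fμ.1 -
        classInner (indFun (H P) fun h => ν.1 (S.proj h)) fμ.1 := by
      rw [← Char.classInner_sub_left, ← Char.indFun_sub]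
      rfl
    rw [hcμ, hmc, hz, hδ1, Int.cast_one, eq_sub_iff_add_eq, ← Nat.cast_one, ← Nat.cast_add,
      Nat.cast_inj] at h
    omega
  have hmult' : ∑ ψ : IrrCharacter G, mult ψ * Char.degree ψ = Char.degree fμ := by
    have h := congrFun hmult 1
    rw [hΨ, Char.indFun_apply_one, Finset.sum_apply] at h
    simp only [Pi.smul_apply, smul_eq_mul, Char.apply_one_eq_degree] at h
    have hΛ1 : Λ 1 = 1 := by
      show μ.1 (S.proj (1 : H P)) = 1
      rw [map_one, hμdef, Char.linIrr_apply, map_one]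
    rw [hΛ1, mul_one, ← hF1, Char.apply_one_eq_degree] at h
    exact_mod_cast h.symm
  have hmult0 : ∀ ψ, mult ψ = if ψ = fμ then 1 else 0 := by
    rw [← Finset.add_sum_erase _ _ (Finset.mem_univ fμ)] at hmult'
    have h1 : Char.degree fμ ≤ mult fμ * Char.degree fμ := Nat.le_mul_of_pos_left _ hm1
    have h0 : ∑ ψ ∈ Finset.univ.erase fμ, mult ψ * Char.degree ψ = 0 := by omega
    have h2 : mult fμ = 1 := Nat.eq_of_mul_eq_mul_right (Char.degree_pos fμ) (by omega)
    intro ψ
    split_ifs with h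
    · rw [h, h2]
    · exact (mul_eq_zero.1 ((Finset.sum_eq_zero_iff.1 h0) ψ (by simp [h]))).resolve_right
        (Char.degree_pos ψ).ne'
  have hΨeq : Ψ = fμ.1 := by
    rw [hmult, Finset.sum_eq_single fμ (fun ψ _ hψ => by rw [hmult0, if_neg hψ, Nat.cast_zero,
      zero_smul]) (fun h => absurd (Finset.mem_univ _) h), hmult0, if_pos rfl, Nat.cast_one, one_smul]
  have hΨnorm : classInner Λ (fun h : H P => Ψ h) = 1 := by
    rw [← Char.classInner_indFun _ _ (Char.isClassFunction_indFun _ _), ← hΨ, hΨeq,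
      Char.classInner_irr_self fμ.2]
  -- but the norm is larger
  let R : G → ℂ := fun x => ∑ h : H P, Λ h * conj (extendByZero (H P) Λ (x⁻¹ * h * x))
  have hRin : ∀ x : G, ∃ k : ℕ, R x = k ∧ (x ∈ H P → k = Nat.card (H P)) ∧
      (x ∉ M P → 0 < k) := by
    intro x
    by_cases hxM : x ∈ M P
    · obtain ⟨w, hw, n, hn, hwn⟩ := S.exists_decomp_M (inv_mem hxM)
      have hR : R x = (Nat.card (W P) : ℂ) *
          if μ = DefectOne.nChar μ ⟨n, hn⟩ then (Nat.card (P : Subgroup G) : ℂ) else 0 := by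
        rw [← S.sum_P_mul_conj, ← S.sum_proj]
        refine Finset.sum_congr rfl fun h _ => ?_
        rw [show extendByZero (H P) Λ = extendByZero (H P) (fun g => μ.1 (S.proj g)) from rfl,
          S.extend_conj_eq hxM hw hn hwn h.2]
        rfl
      by_cases hfix : μ = DefectOne.nChar μ ⟨n, hn⟩
      · refine ⟨Nat.card (H P), ?_, fun _ => rfl, fun h => absurd hxM h⟩
        rw [hR, if_pos hfix, hcard_H]
      · refine ⟨0, ?_, fun hxH => absurd ?_ hfix, fun h => absurd hxM h⟩
        · rw [hR, if_neg hfix, mul_zero, Nat.cast_zero]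
        · refine ((S.nChar_eq_self_iff hp hμ1 _).2 ?_).symm
          rw [← inv_mem_iff, ← hwn, mul_mem_cancel_left (W_le_H hw)] at hxH
          exact S.N_inf_H.le (mem_inf.2 ⟨hn, hxH⟩)
    · refine ⟨(Finset.univ.filter fun h : H P => x⁻¹ * h * x ∈ H P).card, ?_,
        fun h => absurd (H_le_M h) hxM,
        fun _ => Finset.card_pos.2 ⟨1, by simp⟩⟩
      simp only [R]
      rw [Finset.card_filter, Nat.cast_sum]
      refine Finset.sum_congr rfl fun h _ => ?_
      by_cases hm : x⁻¹ * h * x ∈ H P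
      · rw [if_pos hm, Nat.cast_one, Char.extendByZero_of_mem _ _ hm]
        have h1 : S.proj h = 1 := by
          by_contra h1
          refine hxM ?_
          have := S.mem_M_of_conj_mem hM h1 (g := x⁻¹) (by rw [inv_inv]; exact H_le_M hm)
          simpa using this
        have h2 : S.proj ⟨_, hm⟩ = 1 := by
          by_contra h2
          refine hxM (S.mem_M_of_conj_mem hM h2 (g := x) ?_)
          show x * (x⁻¹ * h * x) * x⁻¹ ∈ M P
          rw [show x * (x⁻¹ * h * x) * x⁻¹ = (h : G) by group]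
          exact H_le_M h.2
        simp [Λ, h1, h2, hμdef]
      · rw [if_neg hm, Nat.cast_zero, Char.extendByZero_of_notMem _ _ hm, map_zero, mul_zero]
  choose k hk hkH hkM using hRin
  have htot : ∑ x : G, k x = Nat.card (H P) * Nat.card (H P) := by
    have h : classInner Λ (fun h : H P => Ψ h) =
        (Nat.card (H P) : ℂ)⁻¹ * (Nat.card (H P) : ℂ)⁻¹ * ∑ x : G, R x := by
      simp only [classInner, hΨ, indFun, map_mul, map_inv₀, map_natCast, map_sum, Finset.mul_sum, R]
      rw [Finset.sum_comm]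
      exact Finset.sum_congr rfl fun x _ => Finset.sum_congr rfl fun h _ => by ring
    rw [hΨnorm, Finset.sum_congr rfl fun x _ => hk x, ← Nat.cast_sum] at h
    field_simp at h
    have h' : ((∑ x : G, k x : ℕ) : ℂ) = ((Nat.card (H P) * Nat.card (H P) : ℕ) : ℂ) := by
      push_cast; push_cast at h; linear_combination -h
    exact Nat.cast_injective h'
  obtain ⟨x, hx⟩ := S.index_M_gt_one hM
  have hsplit : ∑ y ∈ Finset.univ.filter (· ∈ H P), k y + k x ≤ ∑ y : G, k y := by
    rw [add_comm, ← Finset.sum_insert (s := Finset.univ.filter (· ∈ H P)) (a := x) (f := k)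
      (by simp only [Finset.mem_filter, Finset.mem_univ, true_and]; exact fun h => hx (H_le_M h))]
    exact Finset.sum_le_sum_of_subset (Finset.subset_univ _)
  rw [Finset.sum_congr rfl (g := fun _ => Nat.card (H P)) fun y hy =>
    hkH y (Finset.mem_filter.1 hy).2, Finset.sum_const, smul_eq_mul, ← Fintype.card_subtype,
    ← Nat.card_eq_fintype_card, htot] at hsplit
  have := hkM x hx
  omega

end Setup

end Cfsg.Agent.PrimeInertia
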