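import Cfsg.Agent.Lib.PrimeInertia.Setup
import Cfsg.Agent.Lib.DefectOne.Principal
import Cfsg.Agent.Lib.Blocks.PPart

/-!
# The subgroup `W ⊔ P`

It is normal in `M = W ⊔ N(P)` of index the automizer, it projects onto `P` with kernel `W`, and a
member of the principal block takes at an element outside `W` the value at its image in `P`.
-/

set_option autoImplicit false
set_option linter.style.haveILetI false
set_option linter.unusedSectionVars false

namespace Cfsg.Agent.PrimeInertia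

open Cfsg Subgroup
open scoped Pointwise Classical

universe u

variable {G : Type u} [Group G] {P : Sylow 2 G}

/-- The subgroup generated by `W` and `P`. -/
noncomputable def H (P : Sylow 2 G) : Subgroup G := W P ⊔ (P : Subgroup G)

theorem H_le_M : H P ≤ M P := sup_le le_sup_left (le_normalizer.trans le_sup_right)

theorem W_le_H : W P ≤ H P := le_sup_left

theorem P_le_H : (P : Subgroup G) ≤ H P := le_sup_right

theorem centralizer_le_normalizer_P :
    centralizer ((P : Subgroup G) : Set G) ≤ normalizer ((P : Subgroup G) : Set G) :=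
  centralizer_le_normalizer _

namespace Setup

variable [Finite G] (S : Setup P)
include S

theorem W_disjoint_P : Disjoint (W P) (P : Subgroup G) := disjoint_def.2 fun {x} hx hxP => by
  by_contra hx1
  exact S.orderOf_even hxP hx1 (S.W_odd.of_dvd_nat ((W P).orderOf_dvd_natCard hx))

theorem W_inf_N_le :
    W P ⊓ normalizer ((P : Subgroup G) : Set G) ≤ centralizer ((P : Subgroup G) : Set G) := by
  rintro w ⟨hw, hwN⟩
  refine mem_centralizer_iff.2 fun x hx => ?_
  have h1 : x * w * x⁻¹ * w⁻¹ ∈ W P :=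
    mul_mem ((mem_normalizer_iff.1 (S.N_le_normalizer_W (le_normalizer hx)) w).1 hw) (inv_mem hw)
  have h2 : x * w * x⁻¹ * w⁻¹ ∈ (P : Subgroup G) := by
    rw [show x * w * x⁻¹ * w⁻¹ = x * (w * x⁻¹ * w⁻¹) by group]
    exact mul_mem hx ((mem_normalizer_iff.1 hwN _).1 (inv_mem hx))
  have h := disjoint_def.1 S.W_disjoint_P h1 h2
  rwa [mul_inv_eq_one, mul_inv_eq_iff_eq_mul] at h

theorem conj_mem_W {m w : G} (hm : m ∈ M P) (hw : w ∈ W P) : m * w * m⁻¹ ∈ W P :=
  (mem_normalizer_iff.1 (S.M_le_normalizer hm) w).1 hw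

theorem exists_decomp_H {h : G} (hh : h ∈ H P) :
    ∃ w ∈ W P, ∃ x ∈ (P : Subgroup G), w * x = h := by
  rw [H, ← SetLike.mem_coe, coe_mul_of_right_le_normalizer_left _ _
    (le_normalizer.trans S.N_le_normalizer_W)] at hh
  exact hh

theorem exists_decomp_M {m : G} (hm : m ∈ M P) :
    ∃ w ∈ W P, ∃ n ∈ normalizer ((P : Subgroup G) : Set G), w * n = m := by
  rw [M, ← SetLike.mem_coe, coe_mul_of_right_le_normalizer_left _ _ S.N_le_normalizer_W] at hm
  exact hm

theorem decomp_unique {w w' x x' : G} (hw : w ∈ W P) (hw' : w' ∈ W P) (hx : x ∈ (P : Subgroup G))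
    (hx' : x' ∈ (P : Subgroup G)) (h : w * x = w' * x') : w = w' ∧ x = x' := by
  have e : w'⁻¹ * w = x' * x⁻¹ := by
    rw [eq_mul_inv_iff_mul_eq, mul_assoc, h, inv_mul_cancel_left]
  have h1 := disjoint_def.1 S.W_disjoint_P (mul_mem (inv_mem hw') hw)
    (e ▸ mul_mem hx' (inv_mem hx))
  have h2 : w = w' := (inv_mul_eq_one.1 h1).symm
  subst h2
  exact ⟨rfl, mul_left_cancel h⟩

/-- The image in `P`. -/
noncomputable def proj : H P →* (P : Subgroup G) where
  toFun h := ⟨(S.exists_decomp_H h.2).choose_spec.2.choose,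
    (S.exists_decomp_H h.2).choose_spec.2.choose_spec.1⟩
  map_one' := by
    apply Subtype.ext
    set d := S.exists_decomp_H (1 : H P).2
    exact ((S.decomp_unique d.choose_spec.1 (one_mem _) d.choose_spec.2.choose_spec.1 (one_mem _)
      (by rw [d.choose_spec.2.choose_spec.2, OneMemClass.coe_one, one_mul])).2).trans rfl
  map_mul' a b := by
    apply Subtype.ext
    set d := S.exists_decomp_H (a * b).2
    obtain ⟨hw, hx, he⟩ := (⟨d.choose_spec.1, d.choose_spec.2.choose_spec.1,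
      d.choose_spec.2.choose_spec.2⟩ : _ ∧ _ ∧ _)
    set da := S.exists_decomp_H a.2
    set db := S.exists_decomp_H b.2
    obtain ⟨hwa, hxa, hea⟩ := (⟨da.choose_spec.1, da.choose_spec.2.choose_spec.1,
      da.choose_spec.2.choose_spec.2⟩ : _ ∧ _ ∧ _)
    obtain ⟨hwb, hxb, heb⟩ := (⟨db.choose_spec.1, db.choose_spec.2.choose_spec.1,
      db.choose_spec.2.choose_spec.2⟩ : _ ∧ _ ∧ _)
    refine (S.decomp_unique hw (mul_mem hwa (S.conj_mem_W (S.P_le_M hxa) hwb)) hx (mul_mem hxa hxb)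
      (he.trans ?_)).2
    push_cast
    conv_lhs => rw [← hea, ← heb]
    group

theorem proj_spec (h : H P) : (h : G) * ((S.proj h : (P : Subgroup G)) : G)⁻¹ ∈ W P := by
  set d := S.exists_decomp_H h.2
  have e := d.choose_spec.2.choose_spec.2
  have : (h : G) * (d.choose_spec.2.choose : G)⁻¹ = d.choose := by
    rw [mul_inv_eq_iff_eq_mul, e]
  show (h : G) * (d.choose_spec.2.choose : G)⁻¹ ∈ W P
  rw [this]
  exact d.choose_spec.1

theorem proj_eq_of {h : H P} {w x : G} (hw : w ∈ W P) (hx : x ∈ (P : Subgroup G))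
    (e : w * x = h) : (S.proj h : G) = x :=
  (S.decomp_unique (S.proj_spec h) hw (S.proj h).2 hx (by rw [inv_mul_cancel_right, e])).2

theorem proj_of_mem_P {x : H P} (hx : (x : G) ∈ (P : Subgroup G)) : (S.proj x : G) = x :=
  S.proj_eq_of (one_mem _) hx (one_mul _)

theorem proj_eq_one_iff {h : H P} : S.proj h = 1 ↔ (h : G) ∈ W P := by
  constructor
  · intro e
    have := S.proj_spec h
    rwa [e, OneMemClass.coe_one, inv_one, mul_one] at this
  · intro hw
    exact Subtype.ext (S.proj_eq_of hw (one_mem _) (mul_one _))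

theorem proj_eq_one_iff_odd {h : H P} : S.proj h = 1 ↔ Odd (orderOf (h : G)) := by
  constructor
  · intro e
    exact S.W_odd.of_dvd_nat ((W P).orderOf_dvd_natCard (S.proj_eq_one_iff.1 e))
  · intro ho
    by_contra h1
    refine S.orderOf_even (S.proj h).2 (fun e => h1 (Subtype.ext e)) ?_
    refine ho.of_dvd_nat ?_
    rw [Subgroup.orderOf_coe, Subgroup.orderOf_coe]
    exact orderOf_map_dvd _ h

/-- The fibres of the projection have the size of `W`. -/
theorem card_fibre (y : (P : Subgroup G)) : Nat.card {h : H P // S.proj h = y} = Nat.card (W P) := by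
  refine Nat.card_congr
    { toFun := fun h => ⟨(h.1 : G) * (y : G)⁻¹, by have := S.proj_spec h.1; rwa [h.2] at this⟩
      invFun := fun w => ⟨⟨(w : G) * y, mul_mem (W_le_H w.2) (P_le_H y.2)⟩,
        Subtype.ext (S.proj_eq_of w.2 y.2 rfl)⟩
      left_inv := fun h => Subtype.ext (Subtype.ext (by simp))
      right_inv := fun w => Subtype.ext (by simp) }

theorem card_H : Nat.card (H P) = Nat.card (W P) * Nat.card (P : Subgroup G) := by
  haveI := Fintype.ofFinite (P : Subgroup G)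
  rw [Nat.card_congr (Equiv.sigmaFiberEquiv S.proj).symm, Nat.card_sigma]
  simp only [S.card_fibre, Finset.sum_const, Finset.card_univ, smul_eq_mul,
    ← Nat.card_eq_fintype_card]
  ring

theorem conj_mem_H {m h : G} (hm : m ∈ M P) (hh : h ∈ H P) : m * h * m⁻¹ ∈ H P := by
  obtain ⟨w', hw', n, hn, rfl⟩ := S.exists_decomp_M hm
  obtain ⟨w, hw, x, hx, rfl⟩ := S.exists_decomp_H hh
  rw [show w' * n * (w * x) * (w' * n)⁻¹ = w' * (n * w * n⁻¹ * (n * x * n⁻¹)) * w'⁻¹ by group]
  exact mul_mem (mul_mem (W_le_H hw') (mul_mem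
    (W_le_H ((mem_normalizer_iff.1 (S.N_le_normalizer_W hn) w).1 hw))
    (P_le_H ((mem_normalizer_iff.1 hn x).1 hx)))) (inv_mem (W_le_H hw'))

theorem H_normal : ((H P).subgroupOf (M P)).Normal :=
  ⟨fun x hx m => mem_subgroupOf.2 (S.conj_mem_H m.2 (mem_subgroupOf.1 hx))⟩

theorem proj_conj {w n : G} (hw : w ∈ W P) (hn : n ∈ normalizer ((P : Subgroup G) : Set G))
    (h : H P) (hh : (w * n) * h * (w * n)⁻¹ ∈ H P) :
    (S.proj ⟨_, hh⟩ : G) = n * (S.proj h : G) * n⁻¹ := by
  set x : G := (S.proj h : G)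
  have hx : x ∈ (P : Subgroup G) := (S.proj h).2
  have hspec := S.proj_spec h
  set a : G := (h : G) * x⁻¹
  have hy : n * x * n⁻¹ ∈ (P : Subgroup G) := (mem_normalizer_iff.1 hn x).1 hx
  refine S.proj_eq_of (w := w * (n * a * n⁻¹) * ((n * x * n⁻¹) * w⁻¹ * (n * x * n⁻¹)⁻¹)) ?_ hy ?_
  · exact mul_mem (mul_mem hw ((mem_normalizer_iff.1 (S.N_le_normalizer_W hn) a).1 hspec))
      (S.conj_mem_W (S.P_le_M hy) (inv_mem hw))
  · simp only [a]
    group

theorem N_inf_H : normalizer ((P : Subgroup G) : Set G) ⊓ H P =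
    centralizer ((P : Subgroup G) : Set G) := by
  refine le_antisymm ?_ (le_inf centralizer_le_normalizer_P S.centralizer_P_le)
  intro h hh
  obtain ⟨hn, hh⟩ := mem_inf.1 hh
  obtain ⟨w, hw, x, hx, rfl⟩ := S.exists_decomp_H hh
  refine mul_mem (S.W_inf_N_le (mem_inf.2 ⟨hw, ?_⟩)) (S.P_le_centralizer hx)
  simpa using mul_mem hn (inv_mem (le_normalizer hx))

theorem relIndex_H : (H P).relIndex (M P) = ind P := by
  set N := normalizer ((P : Subgroup G) : Set G)
  have hle : N ≤ M P := S.N_le_M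
  haveI := S.H_normal
  have h1 : ((H P).subgroupOf (M P)).relIndex (N.subgroupOf (M P)) =
      ((H P).subgroupOf (M P)).index := by
    rw [← relIndex_sup_right, ← relIndex_top_right]
    congr 1
    refine eq_top_iff.2 fun m _ => ?_
    obtain ⟨w, hw, n, hn, e⟩ := S.exists_decomp_M m.2
    have : m = (⟨w, W_le_M_aux hw⟩ : M P) * ⟨n, hle hn⟩ := Subtype.ext e.symm
    rw [this]
    exact mul_mem (mem_sup_right (show (⟨w, _⟩ : M P) ∈ (H P).subgroupOf (M P) from W_le_H hw))
      (mem_sup_left (show (⟨n, _⟩ : M P) ∈ N.subgroupOf (M P) from hn))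
  rw [relIndex, ← h1, relIndex_subgroupOf hle, ind, ← inf_relIndex_right, inf_comm, S.N_inf_H]
where
  W_le_M_aux {w : G} (hw : w ∈ W P) : w ∈ M P := mem_sup_left hw

theorem card_M : Nat.card (M P) = Nat.card (H P) * ind P := by
  rw [← S.relIndex_H, relIndex, ← Nat.card_congr (subgroupOfEquivOfLe (H_le_M (P := P))).toEquiv,
    card_mul_index]

theorem index_H : (H P).index = (M P).index * ind P := by
  rw [← relIndex_mul_index (H_le_M (P := P)), S.relIndex_H, mul_comm]

/-- An element outside `W` of `H` fixes only the coset `M`. -/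
theorem mem_M_of_conj_mem (hM : M P ≠ ⊤) {h : H P} (h1 : S.proj h ≠ 1) {g : G}
    (hg : g * h * g⁻¹ ∈ M P) : g ∈ M P := by
  have hev : Even (orderOf (h : G)) :=
    Nat.not_odd_iff_even.1 fun ho => h1 (S.proj_eq_one_iff_odd.2 ho)
  obtain ⟨j, hj⟩ := hev
  have hj0 : 0 < orderOf (h : G) := orderOf_pos _
  refine S.mem_of_conj_mem hM (s := (h : G) ^ j) (pow_mem (H_le_M h.2) _) ?_ ?_
  · rw [orderOf_pow' _ (by omega), Nat.gcd_eq_right ⟨2, by omega⟩, hj, ← two_mul,
      Nat.mul_div_cancel _ (by omega)]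
  · rw [← conj_pow]
    exact pow_mem hg _

theorem freeData : DefectOne.FreeData P where
  comm := S.hcomm
  free y hy hy1 := le_antisymm
    (fun g hg => S.free g hg.2 y hy hy1 (mem_centralizer_singleton_iff.1 hg.1))
    fun g hg => ⟨centralizer_le (Set.singleton_subset_iff.2 hy) hg,
      centralizer_le_normalizer_P hg⟩

/-- The principal block on `H` outside `W`. -/
theorem apply_eq_proj [Fintype G] {I : Ideal AlgInt} [I.IsMaximal] (hI : (2 : AlgInt) ∈ I)
    {χ : IrrCharacter G} (hχ : χ ∈ principalBlock I G) {h : H P} (h1 : S.proj h ≠ 1) :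
    χ.1 h = χ.1 (S.proj h) := by
  haveI : Fact (Nat.Prime 2) := ⟨Nat.prime_two⟩
  obtain ⟨y, hy⟩ := Blocks.exists_isPPart (p := 2) (h : G)
  have hyH : y ∈ H P := (zpowers_le.2 h.2) (Blocks.IsPPart.mem_zpowers hy)
  obtain ⟨s, hs, hc, ⟨k, hk⟩, hodd⟩ := hy
  have hsH : s ∈ H P := by
    rw [show s = y⁻¹ * (h : G) by rw [← hs, inv_mul_cancel_left]]
    exact mul_mem (inv_mem hyH) h.2
  -- conjugate the 2-part into `P`
  let P' := P.subtype (P_le_H (P := P))
  have hpg : IsPGroup 2 (zpowers (⟨y, hyH⟩ : H P)) := IsPGroup.of_card (n := k) (by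
    rw [Nat.card_zpowers, Subgroup.orderOf_mk, hk])
  obtain ⟨Q, hQ⟩ := hpg.exists_le_sylow
  obtain ⟨m, hm⟩ := MulAction.exists_smul_eq (H P) Q P'
  have hmy : (m : G) * y * (m : G)⁻¹ ∈ (P : Subgroup G) := by
    have h1 : (MulAut.conj m) (⟨y, hyH⟩ : H P) ∈ ((m • Q : Sylow 2 (H P)) : Subgroup (H P)) :=
      ⟨⟨y, hyH⟩, hQ (mem_zpowers _), rfl⟩
    rw [hm] at h1
    exact h1
  have hcomm : ∀ a b : (P : Subgroup G), a * b = b * a := fun a b =>
    Subtype.ext (S.comm a a.2 b b.2)
  have hproj : (S.proj h : G) = (m : G) * y * (m : G)⁻¹ := by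
    have e : h = (⟨y, hyH⟩ : H P) * ⟨s, hsH⟩ := Subtype.ext hs.symm
    have e1 : S.proj ⟨s, hsH⟩ = 1 := S.proj_eq_one_iff_odd.2
      (Nat.not_even_iff_odd.1 fun h => hodd (even_iff_two_dvd.1 h))
    have e2 : S.proj (m * ⟨y, hyH⟩ * m⁻¹) = S.proj ⟨y, hyH⟩ := by
      rw [map_mul, map_mul, hcomm, ← mul_assoc, ← map_mul, inv_mul_cancel, map_one, one_mul]
    rw [e, map_mul, e1, mul_one, ← e2]
    exact S.proj_of_mem_P hmy
  have hpp : IsPPart 2 ((m : G) * h * (m : G)⁻¹) (S.proj h : G) := by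
    rw [hproj]
    refine ⟨(m : G) * s * (m : G)⁻¹, by rw [← hs]; group, ?_, ⟨k, ?_⟩, ?_⟩
    · exact hc.map (MulAut.conj (m : G))
    · rw [← MulAut.conj_apply, MulEquiv.orderOf_eq, hk]
    · rw [← MulAut.conj_apply, MulEquiv.orderOf_eq]
      exact hodd
  rw [← Blocks.irr_classFun χ (h : G) (m : G)]
  exact S.freeData.apply_section (by exact_mod_cast hI) hχ hpp (S.proj h).2
    fun e => h1 (Subtype.ext e)

end Setup

end Cfsg.Agent.PrimeInertia
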