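import Cfsg.Agent.Lib.PrimeInertia.Count
import Cfsg.Agent.Lib.PrimeInertia.Exponent
import Cfsg.Agent.Lib.InvolRankOne.Free
import Cfsg.Agent.Lib.HigmanRankTwo.OrderThree
import Cfsg.Agent.S0949

/-!
# A free automizer of prime order

The principal block has as many irreducible Brauer characters as the automizer has elements, and
`|P|` ordinary ones if the group is not solvable.  With at least seven involutions in `P` this is
read off from the quotient by the core; with three, `P` is homocyclic.
-/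

set_option autoImplicit false
set_option linter.style.haveILetI false
set_option linter.unusedSectionVars false

namespace Cfsg.Agent.PrimeInertia

open Cfsg Subgroup
open scoped Classical Cfsg.Agent.Blocks

universe u

variable {G : Type u} [Group G] {P : Sylow 2 G}

theorem mem_omega_iff (hab : ∀ a ∈ (P : Subgroup G), ∀ b ∈ (P : Subgroup G), a * b = b * a) {t : G} :
    t ∈ omega P ↔ t ∈ (P : Subgroup G) ∧ t * t = 1 := by
  refine ⟨fun h => ?_, fun h => mem_omega_of_sq h.1 h.2⟩
  let T : Subgroup G :=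
    { carrier := {t | t ∈ (P : Subgroup G) ∧ t * t = 1}
      one_mem' := ⟨one_mem _, one_mul 1⟩
      mul_mem' := fun {a b} ha hb => ⟨mul_mem ha.1 hb.1, by
        rw [show a * b * (a * b) = a * (b * a) * b by group, hab b hb.1 a ha.1,
          show a * (a * b) * b = (a * a) * (b * b) by group, ha.2, hb.2, one_mul]⟩
      inv_mem' := fun {a} ha => ⟨inv_mem ha.1, by rw [← mul_inv_rev, ha.2, inv_one]⟩ }
  have hle : omega P ≤ T := (closure_le _).2 fun s hs => hs
  exact hle h

variable [Finite G]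

/-- The free abelian situation passes to the quotient by a normal subgroup of odd order. -/
theorem exists_quotient (hab : ∀ a ∈ (P : Subgroup G), ∀ b ∈ (P : Subgroup G), a * b = b * a)
    (hfree : ∀ g ∈ normalizer ((P : Subgroup G) : Set G), ∀ x ∈ (P : Subgroup G), x ≠ 1 →
      g * x = x * g → g ∈ centralizer ((P : Subgroup G) : Set G))
    (H : Subgroup G) [H.Normal] (hH : Odd (Nat.card H)) :
    ∃ Q : Sylow 2 (G ⧸ H),
      (∀ a ∈ (Q : Subgroup (G ⧸ H)), ∀ b ∈ (Q : Subgroup (G ⧸ H)), a * b = b * a) ∧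
      (∀ g ∈ normalizer ((Q : Subgroup (G ⧸ H)) : Set (G ⧸ H)), ∀ x ∈ (Q : Subgroup (G ⧸ H)), x ≠ 1 →
        g * x = x * g → g ∈ centralizer ((Q : Subgroup (G ⧸ H)) : Set (G ⧸ H))) ∧
      ind Q = ind P ∧ Nonempty ((P : Subgroup G) ≃* (Q : Subgroup (G ⧸ H))) := by
  haveI : Fact (Nat.Prime 2) := ⟨Nat.prime_two⟩
  have hcop : (Nat.card H).Coprime 2 := Nat.coprime_two_right.2 hH
  have hdis : Disjoint (P : Subgroup G) H := PCore.disjoint_of_isPGroup_of_coprime P.2 hcop
  have hinj : ∀ x ∈ (P : Subgroup G), x ∈ H → x = 1 := fun x hxP hxH =>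
    disjoint_def.1 hdis hxP hxH
  let Q : Sylow 2 (G ⧸ H) := P.mapSurjective (QuotientGroup.mk'_surjective H)
  have hQ : (Q : Subgroup (G ⧸ H)) = (P : Subgroup G).map (QuotientGroup.mk' H) := rfl
  have hN := PCore.map_normalizer_mk' H hcop P.2
  have hcent : ∀ g ∈ normalizer ((P : Subgroup G) : Set G),
      (g : G ⧸ H) ∈ centralizer ((Q : Subgroup (G ⧸ H)) : Set (G ⧸ H)) →
      g ∈ centralizer ((P : Subgroup G) : Set G) := by
    intro g hg hgC
    refine mem_centralizer_iff.2 fun x hx => ?_
    have h := mem_centralizer_iff.1 hgC (x : G ⧸ H) (by rw [hQ]; exact mem_map_of_mem _ hx)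
    have hm : g * x * g⁻¹ * x⁻¹ ∈ H := by
      rw [← QuotientGroup.eq_one_iff]
      simp only [QuotientGroup.mk_mul, QuotientGroup.mk_inv]
      rw [← h]
      group
    have := hinj _ (mul_mem ((mem_normalizer_iff.1 hg x).1 hx) (inv_mem hx)) hm
    rw [mul_inv_eq_one, mul_inv_eq_iff_eq_mul] at this
    exact this.symm
  refine ⟨Q, ?_, ?_, ?_, ⟨?_⟩⟩
  · rintro _ ⟨a, ha, rfl⟩ _ ⟨b, hb, rfl⟩
    rw [← map_mul, hab a ha b hb, map_mul]
  · intro g hg x hx hx1 hgx
    rw [hQ, ← hN] at hg
    obtain ⟨g₀, hg₀, rfl⟩ := hg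
    rw [hQ] at hx
    obtain ⟨x₀, hx₀, rfl⟩ := hx
    have hx₀1 : x₀ ≠ 1 := fun e => hx1 (by rw [e, map_one])
    have hm : g₀ * x₀ * g₀⁻¹ * x₀⁻¹ ∈ H := by
      rw [← QuotientGroup.eq_one_iff]
      simp only [QuotientGroup.mk_mul, QuotientGroup.mk_inv]
      rw [show ((g₀ : G ⧸ H) * (x₀ : G ⧸ H)) = (x₀ : G ⧸ H) * (g₀ : G ⧸ H) from hgx]
      group
    have h1 := hinj _ (mul_mem ((mem_normalizer_iff.1 hg₀ x₀).1 hx₀) (inv_mem hx₀)) hm
    rw [mul_inv_eq_one, mul_inv_eq_iff_eq_mul] at h1
    have hC := hfree g₀ hg₀ x₀ hx₀ hx₀1 h1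
    rw [hQ]
    refine mem_centralizer_iff.2 ?_
    rintro _ ⟨y, hy, rfl⟩
    rw [← map_mul, mem_centralizer_iff.1 hC y hy, map_mul]
  · rw [ind, ind, hQ, ← hN, ← relIndex_comap, ← inf_relIndex_right, ← inf_relIndex_right
      (centralizer ((P : Subgroup G) : Set G))]
    congr 1
    refine le_antisymm (fun g hg => ⟨hcent g hg.2 (hQ ▸ hg.1), hg.2⟩) fun g hg => ⟨?_, hg.2⟩
    refine mem_centralizer_iff.2 ?_
    rintro _ ⟨y, hy, rfl⟩
    show (y : G ⧸ H) * (g : G ⧸ H) = (g : G ⧸ H) * (y : G ⧸ H)
    rw [← QuotientGroup.mk_mul, mem_centralizer_iff.1 hg.1 y hy, QuotientGroup.mk_mul]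
  · refine (MulEquiv.ofBijective ((QuotientGroup.mk' H).subgroupMap (P : Subgroup G))
      ⟨(injective_iff_map_eq_one _).2 fun x hx => Subtype.ext (hinj x x.2 ?_),
        MonoidHom.subgroupMap_surjective _ _⟩)
    exact (QuotientGroup.eq_one_iff _).1 (congrArg Subtype.val hx)

/-- The number of involutions is preserved by isomorphisms of abelian Sylow subgroups. -/
theorem card_omega_congr {G' : Type u} [Group G'] [Finite G'] {Q : Sylow 2 G'}
    (hab : ∀ a ∈ (P : Subgroup G), ∀ b ∈ (P : Subgroup G), a * b = b * a)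
    (hab' : ∀ a ∈ (Q : Subgroup G'), ∀ b ∈ (Q : Subgroup G'), a * b = b * a)
    (f : (P : Subgroup G) ≃* (Q : Subgroup G')) : Nat.card (omega Q) = Nat.card (omega P) := by
  have h : ∀ {H : Type u} [Group H] {R : Sylow 2 H},
      (∀ a ∈ (R : Subgroup H), ∀ b ∈ (R : Subgroup H), a * b = b * a) →
      Nat.card (omega R) = Nat.card {a : (R : Subgroup H) // a * a = 1} := by
    intro H _ R h
    exact Nat.card_congr
      { toFun := fun t => ⟨⟨t, ((mem_omega_iff h).1 t.2).1⟩, Subtype.ext ((mem_omega_iff h).1 t.2).2⟩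
        invFun := fun t => ⟨t.1, (mem_omega_iff h).2 ⟨t.1.2, congrArg Subtype.val t.2⟩⟩
        left_inv := fun t => rfl
        right_inv := fun t => rfl }
  rw [h hab, h hab']
  exact Nat.card_congr (f.toEquiv.subtypeEquiv fun a => by
    show a * a = 1 ↔ f a * f a = 1
    rw [← map_mul, map_eq_one_iff f f.injective]).symm

theorem isSolvable_of_normal (hn : (P : Subgroup G).Normal) : Group.IsSolvable G := by
  haveI : Fact (Nat.Prime 2) := ⟨Nat.prime_two⟩
  haveI := hn
  haveI : Group.IsNilpotent (P : Subgroup G) := P.2.isNilpotent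
  haveI : Group.IsSolvable (G ⧸ (P : Subgroup G)) := S0205.result (by
    rw [← index_eq_card]
    exact Nat.not_even_iff_odd.1 fun h => P.not_dvd_index (even_iff_two_dvd.1 h))
  exact Group.isSolvable_of_ker_le_range (P : Subgroup G).subtype (QuotientGroup.mk' (P : Subgroup G)) (by simp)

theorem isSolvable_of_quotient (H : Subgroup G) [H.Normal] (hH : Odd (Nat.card H))
    (h : Group.IsSolvable (G ⧸ H)) : Group.IsSolvable G := by
  haveI := h
  haveI : Group.IsSolvable H := S0205.result hH
  exact Group.isSolvable_of_ker_le_range H.subtype (QuotientGroup.mk' H) (by simp)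

/-- A normal self-centralizing `P` has automizer index equal to its index. -/
theorem index_eq_ind (hn : (P : Subgroup G).Normal)
    (hC : centralizer ((P : Subgroup G) : Set G) = (P : Subgroup G)) :
    (P : Subgroup G).index = ind P := by
  rw [ind, hC, normalizer_eq_top_iff.2 hn, relIndex_top_right]

variable {I : Ideal AlgInt} [Fact (Nat.Prime 2)] [I.IsMaximal]

/-- The count for at least seven involutions and a trivial core. -/
theorem card_of_big [Fintype G] (S : Setup P) (hI : IsPModular 2 I)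
    (hO : ∀ K : Subgroup G, K.Normal → Odd (Nat.card K) → K = ⊥) (hp : (ind P).Prime) {r : ℕ}
    (hr : Nat.card (P : Subgroup G) = 1 + ind P * r) :
    Nat.card (principalBlock I G) = ind P + r ∧
      (¬ Group.IsSolvable G → ind P + r = Nat.card (P : Subgroup G)) := by
  by_cases hM : M P = ⊤
  · obtain ⟨hn, hC⟩ := S.normal_of_eq_top hO hM
    exact ⟨card_of_normal_prime hI S.comm S.free hn hC hp (index_eq_ind hn hC) hr,
      fun h => absurd (isSolvable_of_normal hn) h⟩
  have hΩ := S.omega_eq hM hp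
  have he := S.card_omega hM
  rw [hΩ] at he
  have S' : InvolRankOne.Setup P :=
    ⟨fun x hx => S.sq_of_mem_omega (hΩ.ge hx), hΩ ▸ S.big, S.free⟩
  have hr1 : r = 1 := by
    refine Nat.eq_of_mul_eq_mul_left hp.pos ?_
    rw [mul_one]
    omega
  have hk := S'.card_of_prime hO hI hp (by rw [← S'.prime_M_eq]; exact hM)
  exact ⟨by rw [hk, hr, hr1, mul_one, add_comm], fun _ => by rw [hr, hr1, mul_one, add_comm]⟩

/-- A prime automizer with at most three involutions has three elements. -/
theorem ind_eq_three [Fintype G]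
    (hab : ∀ a ∈ (P : Subgroup G), ∀ b ∈ (P : Subgroup G), a * b = b * a)
    (hfree : ∀ g ∈ normalizer ((P : Subgroup G) : Set G), ∀ x ∈ (P : Subgroup G), x ≠ 1 →
      g * x = x * g → g ∈ centralizer ((P : Subgroup G) : Set G))
    (hp : (ind P).Prime) (hbig : ¬ 8 ≤ Nat.card (omega P)) :
    ind P = 3 ∧ Nat.card (omega P) = 4 := by
  have hd : ind P ∣ Nat.card (omega P) - 1 := by
    have h := InvolRankOne.dvd_card_invariant hab hfree
      ((Finset.univ.filter fun t : G => t ∈ omega P).erase 1)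
      (fun t ht => by
        simp only [Finset.mem_erase, Finset.mem_filter, Finset.mem_univ, true_and] at ht
        exact ⟨omega_le ht.2, ht.1⟩)
      (fun n hn t ht => by
        simp only [Finset.mem_erase, Finset.mem_filter, Finset.mem_univ, true_and] at ht ⊢
        exact ⟨fun h => ht.1 (conj_eq_one_iff.1 h), omega_conj_mem hn ht.2⟩)
    rwa [Finset.card_erase_of_mem (by simp), ← Fintype.card_subtype,
      ← Nat.card_eq_fintype_card] at h
  obtain ⟨k, hk⟩ := IsPGroup.iff_card.1 (P.2.to_le (omega_le (P := P)))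
  rw [hk] at hbig hd ⊢
  have hk3 : k < 3 := by
    by_contra h
    exact hbig (le_trans (by norm_num) (Nat.pow_le_pow_right two_pos (not_lt.1 h)))
  interval_cases k
  · exfalso
    have hPbot : (P : Subgroup G) = ⊥ := by
      by_contra h
      obtain ⟨t, ht, ht2⟩ := exists_involution_of_ne_bot le_rfl h
      have h1 : omega P = ⊥ := card_eq_one.1 (by rw [hk]; norm_num)
      have := mem_omega_of_orderOf ht ht2
      rw [h1, mem_bot] at this
      rw [this, orderOf_one] at ht2
      exact absurd ht2 (by norm_num)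
    refine hp.ne_one ?_
    rw [ind, relIndex_eq_one, hPbot]
    intro g _
    exact mem_centralizer_iff.2 fun x hx => by
      rw [SetLike.mem_coe, mem_bot] at hx
      simp [hx]
  · exact absurd (Nat.dvd_one.1 (by simpa using hd)) hp.ne_one
  · exact ⟨(Nat.prime_dvd_prime_iff_eq hp Nat.prime_three).1 (by simpa using hd), by norm_num⟩

/-- The counts for a free automizer of prime order. -/
theorem card_of_free_prime [Fintype G] (hI : IsPModular 2 I)
    (hab : ∀ a ∈ (P : Subgroup G), ∀ b ∈ (P : Subgroup G), a * b = b * a)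
    (hfree : ∀ g ∈ normalizer ((P : Subgroup G) : Set G), ∀ x ∈ (P : Subgroup G), x ≠ 1 →
      g * x = x * g → g ∈ centralizer ((P : Subgroup G) : Set G))
    (hp : (ind P).Prime) :
    blockRank 2 (principalBlock I G) = ind P ∧
      (¬ Group.IsSolvable G → Nat.card (principalBlock I G) = Nat.card (P : Subgroup G)) := by
  haveI : CharP (AlgInt ⧸ I) 2 := Blocks.charP_residue hI.2.2
  obtain ⟨hmax, hstab⟩ := InvolRankOne.principal_isMax (M := I) P
  have hP1 : (P : Subgroup G) ≠ ⊥ := fun h => hp.ne_one (by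
    rw [ind, relIndex_eq_one, h]
    intro g _
    exact mem_centralizer_iff.2 fun x hx => by
      rw [SetLike.mem_coe, mem_bot] at hx
      simp [hx])
  have s : FreeInertia.Setup 2 (principalBlock I G) (P : Subgroup G)
      (BrauerPairs.blk I (centralizer ((P : Subgroup G) : Set G))
        (principalBlock I (centralizer ((P : Subgroup G) : Set G)))) :=
    ⟨hI, BrauerPairs.isPBlock_principalBlock, hmax,
      fun x hx => mem_centralizer_iff.2 fun y hy => hab y hy x hx,
      fun g hg x hx hx1 h => hfree g (hstab ▸ hg) x hx hx1 (mul_inv_eq_iff_eq_mul.1 h)⟩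
  obtain ⟨r, hr, hk, -, h3⟩ := s.counts hP1
  rw [FreeInertia.card_autE, hstab] at hr h3
  rw [← ind] at hr h3
  set H := pPrimeCore 2 G
  have hH : Odd (Nat.card H) := Nat.coprime_two_right.1 PCore.coprime_card_pPrimeCore
  obtain ⟨Q, hQab, hQfree, hind, ⟨f⟩⟩ := exists_quotient hab hfree H hH
  have hQcard := Nat.card_congr f.toEquiv
  haveI := Fintype.ofFinite (G ⧸ H)
  have hO := InvolRankOne.oddCore_quotient_eq_bot (G := G)
  by_cases hbig : 8 ≤ Nat.card (omega P)
  · have SQ : Setup Q := ⟨hQab, hQfree, by rw [card_omega_congr hab hQab f]; exact hbig⟩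
    obtain ⟨h1, h2⟩ := card_of_big SQ hI hO (hind ▸ hp) (r := r)
      (by rw [← hQcard, hind]; exact hr)
    rw [InvolRankOne.card_principalBlock_quotient hI H PCore.not_dvd_card_pPrimeCore, hind] at h1
    refine ⟨by omega, fun hns => ?_⟩
    have := h2 fun h => hns (isSolvable_of_quotient H hH h)
    rw [hind, ← hQcard] at this
    omega
  obtain ⟨he, h4⟩ := ind_eq_three hab hfree hp hbig
  have hl := h3 he.le
  refine ⟨hl, fun hns => ?_⟩
  rw [hk, hl, he]
  by_cases hq4 : Nat.card (P : Subgroup G) = 4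
  · rw [he] at hr; omega
  exfalso
  -- a fixed point free automorphism: `P` is homocyclic
  obtain ⟨n, hn, hnC⟩ : ∃ n ∈ normalizer ((P : Subgroup G) : Set G),
      n ∉ centralizer ((P : Subgroup G) : Set G) := Set.not_subset.1 fun h => hp.ne_one (by
        rw [ind, relIndex_eq_one]
        exact h)
  letI : CommGroup (P : Subgroup G) :=
    { (inferInstance : Group (P : Subgroup G)) with
      mul_comm := fun a b => Subtype.ext (hab a a.2 b b.2) }
  have h4' : Nat.card {a : (P : Subgroup G) // a * a = 1} = 4 := by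
    rw [← h4]
    exact Nat.card_congr
      { toFun := fun t => ⟨t.1, (mem_omega_iff hab).2 ⟨t.1.2, congrArg Subtype.val t.2⟩⟩
        invFun := fun t => ⟨⟨t, ((mem_omega_iff hab).1 t.2).1⟩,
          Subtype.ext ((mem_omega_iff hab).1 t.2).2⟩
        left_inv := fun t => rfl
        right_inv := fun t => rfl }
  obtain ⟨m, hm⟩ := HigmanRankTwo.homocyclic (A := (P : Subgroup G))
    (normalizerMonoidHom (P : Subgroup G) ⟨n, hn⟩) P.2 h4' fun a ha => by
      by_contra ha1
      refine hnC (hfree n hn a a.2 (fun h => ha1 (Subtype.ext h)) ?_)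
      exact mul_inv_eq_iff_eq_mul.1 (congrArg Subtype.val ha)
  obtain ⟨φ⟩ := hm.iso
  have hm2 : 2 ≤ m := by
    by_contra hcon
    have h1 := hm.pos
    refine hq4 (hm.card.trans ?_)
    rw [show m = 1 by omega]
    norm_num
  have hQn := (S0949.result Q m hm2 (f.symm.trans φ) hO).1
  exact hns (isSolvable_of_quotient H hH (isSolvable_of_normal hQn))

end Cfsg.Agent.PrimeInertia
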