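import Cfsg.Agent.Lib.PrimeInertia.Elementary
import Cfsg.Agent.Lib.InvolRankOne.Core
import Mathlib.RepresentationTheory.Character

/-!
# The index of `M` is less than `6 |P|`

A vector fixed by `W`, by a conjugate of `W` outside `M` and by a four-group of `P` is fixed by
`M`.  This bounds the negative values at involutions of the principal block by the degrees, and the
class sum bound gives the index.
-/

set_option autoImplicit false
set_option linter.style.haveILetI false
set_option linter.unusedSectionVars false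

namespace Cfsg.Agent.InvolRankOne

open Cfsg Subgroup
open scoped Pointwise Classical ComplexConjugate

universe u

variable {G : Type u} [Group G] [Fintype G]

/-- The fixed space of a subgroup. -/
noncomputable def fixedSpace {n : ℕ} (ρ : Representation ℂ G (Fin n → ℂ)) (K : Subgroup G) :
    Submodule ℂ (Fin n → ℂ) := Representation.invariants (ρ.comp K.subtype)

theorem mem_fixedSpace {n : ℕ} {ρ : Representation ℂ G (Fin n → ℂ)} {K : Subgroup G}
    {v : Fin n → ℂ} : v ∈ fixedSpace ρ K ↔ ∀ g ∈ K, ρ g v = v :=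
  ⟨fun h g hg => h ⟨g, hg⟩, fun h g => h g g.2⟩

theorem card_mul_finrank_fixedSpace {n : ℕ} (ρ : Representation ℂ G (Fin n → ℂ)) (K : Subgroup G) :
    (Nat.card K : ℂ) * (Module.finrank ℂ (fixedSpace ρ K) : ℂ) =
      ∑ g : K, ρ.character g := by
  haveI : Invertible (Nat.card K : ℂ) := invertibleOfNonzero (Nat.cast_ne_zero.2 Nat.card_pos.ne')
  haveI : Invertible (Fintype.card K : ℂ) :=
    invertibleOfNonzero (Nat.cast_ne_zero.2 Fintype.card_ne_zero)
  have h := (Representation.isProj_averageMap (ρ.comp K.subtype)).trace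
  rw [fixedSpace, ← h]
  simp only [Representation.averageMap, GroupAlgebra.average, map_smul, map_sum,
    Representation.asAlgebraHom_single, one_smul, smul_eq_mul]
  rw [← mul_assoc, Nat.card_eq_fintype_card, mul_invOf_self, one_mul]
  simp only [Representation.asAlgebraHom_of]
  rfl

/-- The stabilizer of a vector. -/
noncomputable def stabVec {n : ℕ} (ρ : Representation ℂ G (Fin n → ℂ)) (v : Fin n → ℂ) :
    Subgroup G where
  carrier := {g | ρ g v = v}
  one_mem' := by simp
  mul_mem' := fun {g h} hg hh => by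
    show ρ (g * h) v = v
    rw [map_mul, Module.End.mul_apply, hh, hg]
  inv_mem' := fun {g} hg => by
    show ρ g⁻¹ v = v
    conv_lhs => rw [← show ρ g v = v from hg]
    rw [← Module.End.mul_apply, ← map_mul, inv_mul_cancel, map_one, Module.End.one_apply]

namespace Setup

variable {P : Sylow 2 G} (S : Setup P)
include S

/-- `W` meets the core of `M` trivially. -/
theorem W_inf_core (hO : ∀ K : Subgroup G, K.Normal → Odd (Nat.card K) → K = ⊥) :
    W P ⊓ (InvolRankOne.M P).normalCore = ⊥ := by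
  haveI : Fact (Nat.Prime 2) := ⟨Nat.prime_two⟩
  set C := (InvolRankOne.M P).normalCore
  haveI : ((W P).subgroupOf C).Normal := normal_subgroupOf_of_le_normalizer'
  have hle : (W P).subgroupOf C ≤ pPrimeCore 2 C := le_sSup ⟨inferInstance, by
    rw [Nat.coprime_two_right, show (W P).subgroupOf C = (W P ⊓ C).subgroupOf C by
      rw [inf_subgroupOf_right], Nat.card_congr (subgroupOfEquivOfLe (inf_le_right)).toEquiv]
    exact S.W_odd.of_dvd_nat (card_dvd_of_le inf_le_left)⟩
  have hn : ((pPrimeCore 2 C).map C.subtype).Normal := inferInstance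
  have h0 : (pPrimeCore 2 C).map C.subtype = ⊥ := hO _ hn (by
    rw [card_map_of_injective C.subtype_injective]
    exact Nat.coprime_two_right.1 PCore.coprime_card_pPrimeCore)
  rw [eq_bot_iff, ← h0]
  exact fun w hw => ⟨⟨w, hw.2⟩, hle hw.1, rfl⟩
where
  normal_subgroupOf_of_le_normalizer' :
      ((W P).subgroupOf (InvolRankOne.M P).normalCore).Normal :=
    normal_subgroupOf_of_le_normalizer ((normalCore_le _).trans S.W_le_normalizer)

theorem eq_one_of_forall_mem (hO : ∀ K : Subgroup G, K.Normal → Odd (Nat.card K) → K = ⊥)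
    {w : G} (hw : w ∈ W P)
    (h : ∀ g : G, w ∈ (InvolRankOne.M P).map (MulAut.conj g).toMonoidHom) : w = 1 := by
  refine mem_bot.1 (S.W_inf_core hO ▸ mem_inf.2 ⟨hw, fun b => ?_⟩)
  obtain ⟨m, hm, e⟩ := h b⁻¹
  have : b * w * b⁻¹ = m := by
    rw [← e]
    show b * (b⁻¹ * m * b⁻¹⁻¹) * b⁻¹ = m
    group
  rw [this]; exact hm

theorem exists_not_le (hO : ∀ K : Subgroup G, K.Normal → Odd (Nat.card K) → K = ⊥)
    (hW : W P ≠ ⊥) : ∃ g : G, ¬ (W P).map (MulAut.conj g).toMonoidHom ≤ InvolRankOne.M P := by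
  by_contra h
  push Not at h
  refine hW (eq_bot_iff.2 fun w hw => mem_bot.2 (S.eq_one_of_forall_mem hO hw fun g => ?_))
  refine ⟨g⁻¹ * w * g, h g⁻¹ ⟨w, hw, ?_⟩, ?_⟩
  · show g⁻¹ * w * g⁻¹⁻¹ = g⁻¹ * w * g
    rw [inv_inv]
  · show g * (g⁻¹ * w * g) * g⁻¹ = w
    group

variable {I : Ideal AlgInt} [Fact (Nat.Prime 2)] [I.IsMaximal]

/-- Characters of the principal block are constant on the elements of even order of `W ⊔ P`. -/
theorem apply_W_mul (hI : IsPModular 2 I) (hT : Transitive P) {u : G} (hu : u ∈ (P : Subgroup G))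
    (hu1 : u ≠ 1) {χ : IrrCharacter G} (hχ : χ ∈ principalBlock I G) {w x : G} (hw : w ∈ W P)
    (hx : x ∈ (P : Subgroup G)) (hx1 : x ≠ 1) : χ.1 (w * x) = χ.1 u := by
  rw [← S.prime_W_eq] at hw
  set T := S.toPrime
  have hmem : w * x ∈ PrimeInertia.H P :=
    mul_mem (PrimeInertia.W_le_H hw) (PrimeInertia.P_le_H hx)
  have hp : (T.proj ⟨w * x, hmem⟩ : G) = x := T.proj_eq_of hw hx rfl
  have h := T.apply_eq_proj hI.2.2 hχ (h := ⟨w * x, hmem⟩) (fun e => hx1 (by rw [← hp, e]; rfl))
  rw [hp] at h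
  exact h.trans (S.apply_eq hT χ hx hx1 hu hu1)

theorem finrank_W_sup (hI : IsPModular 2 I) (hT : Transitive P) {u : G}
    (hu : u ∈ (P : Subgroup G)) (hu1 : u ≠ 1) {χ : IrrCharacter G}
    (hχ : χ ∈ principalBlock I G) {n : ℕ} {ρ : Representation ℂ G (Fin n → ℂ)}
    (hρ : ρ.character = χ.1) {F : Subgroup G} (hF : F ≤ (P : Subgroup G)) :
    (Nat.card F : ℂ) * Module.finrank ℂ (fixedSpace ρ (W P ⊔ F)) =
      (Module.finrank ℂ (fixedSpace ρ (W P)) : ℂ) + ((Nat.card F : ℂ) - 1) * χ.1 u := by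
  have hnorm : F ≤ normalizer (W P : Set G) := hF.trans (le_normalizer.trans S.N_le_normalizer_W)
  have hdisj : Disjoint (W P) F := S.W_disjoint_P.mono_right hF
  let f : W P × F → (W P ⊔ F : Subgroup G) := fun p =>
    ⟨p.1 * p.2, mul_mem (mem_sup_left p.1.2) (mem_sup_right p.2.2)⟩
  have hf : Function.Bijective f := by
    refine ⟨fun p q h => mul_injective_of_disjoint hdisj (congrArg Subtype.val h), ?_⟩
    rintro ⟨g, hg⟩
    rw [← SetLike.mem_coe, coe_mul_of_right_le_normalizer_left _ _ hnorm] at hg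
    obtain ⟨w, hw, x, hx, rfl⟩ := hg
    exact ⟨(⟨w, hw⟩, ⟨x, hx⟩), rfl⟩
  have h1 := card_mul_finrank_fixedSpace ρ (W P ⊔ F)
  rw [← hf.sum_comp (fun g => ρ.character g), Fintype.sum_prod_type, hρ,
    ← Nat.card_congr (Equiv.ofBijective f hf), Nat.card_prod] at h1
  rw [Finset.sum_congr rfl (g := fun w : W P => χ.1 w + ((Nat.card F : ℂ) - 1) * χ.1 u)
    fun w _ => by
      rw [← Finset.add_sum_erase _ _ (Finset.mem_univ (1 : F))]
      simp only [f, OneMemClass.coe_one, mul_one]
      rw [Finset.sum_congr rfl (g := fun _ => χ.1 u) fun x hx => S.apply_W_mul hI hT hu hu1 hχ w.2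
          (hF x.2) (fun e => Finset.ne_of_mem_erase hx (Subtype.ext e)),
        Finset.sum_const, Finset.card_erase_of_mem (Finset.mem_univ _), Finset.card_univ,
        nsmul_eq_mul, Nat.cast_sub (Nat.one_le_iff_ne_zero.2 Fintype.card_ne_zero),
        ← Nat.card_eq_fintype_card, Nat.cast_one],
    Finset.sum_add_distrib, Finset.sum_const, Finset.card_univ, nsmul_eq_mul,
    ← Nat.card_eq_fintype_card] at h1
  have h2 := card_mul_finrank_fixedSpace ρ (W P)
  rw [hρ] at h2
  rw [← h2] at h1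
  push_cast at h1
  refine mul_left_cancel₀ (show (Nat.card (W P) : ℂ) ≠ 0 from Nat.cast_ne_zero.2 Nat.card_pos.ne') ?_
  linear_combination h1

theorem finrank_conj {n : ℕ} (ρ : Representation ℂ G (Fin n → ℂ)) (g : G) (K : Subgroup G) :
    Module.finrank ℂ (fixedSpace ρ (K.map (MulAut.conj g).toMonoidHom)) =
      Module.finrank ℂ (fixedSpace ρ K) := by
  have h1 := card_mul_finrank_fixedSpace ρ (K.map (MulAut.conj g).toMonoidHom)
  have h2 := card_mul_finrank_fixedSpace ρ K
  rw [card_map_of_injective (MulEquiv.injective _),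
    ← (K.equivMapOfInjective (MulAut.conj g).toMonoidHom (MulEquiv.injective _)).toEquiv.sum_comp,
    Finset.sum_congr rfl (g := fun x : K => ρ.character x) fun x _ => ?_, ← h2] at h1
  · exact_mod_cast mul_left_cancel₀ (Nat.cast_ne_zero.2 Nat.card_pos.ne') h1
  · show ρ.character (g * (x : G) * g⁻¹) = ρ.character x
    exact Representation.char_conj ρ x g

/-- A negative value at an involution is small against the degree. -/
theorem five_mul_degree (hO : ∀ K : Subgroup G, K.Normal → Odd (Nat.card K) → K = ⊥)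
    (hMt : InvolRankOne.M P ≠ ⊤) (hp : (PrimeInertia.ind P).Prime) (hT : Transitive P)
    (hI : IsPModular 2 I) (hW : W P ≠ ⊥) (h32 : 32 ≤ Nat.card (P : Subgroup G)) {u : G}
    (hu : u ∈ (P : Subgroup G)) (hu1 : u ≠ 1) {χ : IrrCharacter G}
    (hχ : χ ∈ principalBlock I G) {d : ℤ} (hd : χ.1 u = d) (hd0 : d < 0) :
    ((Nat.card (P : Subgroup G) : ℤ) + 5 * ((Nat.card (P : Subgroup G) : ℤ) - 1)) * (-d) ≤
      5 * (charDegree χ.1 : ℤ) := by
  set q := Nat.card (P : Subgroup G) with hq
  obtain ⟨b, hb, hb1, hub⟩ : ∃ b ∈ (P : Subgroup G), b ≠ 1 ∧ u ≠ b := by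
    by_contra hno
    push Not at hno
    have hsub : (Finset.univ.filter fun t : G => t ∈ (P : Subgroup G)) ⊆ {1, u} := fun t ht => by
      by_cases ht1 : t = 1
      · simp [ht1]
      · simp [hno t (Finset.mem_filter.1 ht).2 ht1]
    have hc := (Finset.card_le_card hsub).trans Finset.card_le_two
    rw [← Fintype.card_subtype, ← Nat.card_eq_fintype_card] at hc
    omega
  obtain ⟨N, ρ, -, hρ⟩ := χ.2
  set F := zpowers u ⊔ zpowers b
  have hzu : Nat.card (zpowers u) = 2 := by rw [Nat.card_zpowers, S.orderOf_eq_two hu hu1]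
  have hzb : Nat.card (zpowers b) = 2 := by rw [Nat.card_zpowers, S.orderOf_eq_two hb hb1]
  have hF : F ≤ (P : Subgroup G) := sup_le (zpowers_le.2 hu) (zpowers_le.2 hb)
  have hFcard : 4 ≤ Nat.card F := by
    have hsub : ({1, u, b, u * b} : Finset G) ⊆ Finset.univ.filter (· ∈ F) := by
      intro t ht
      simp only [Finset.mem_insert, Finset.mem_singleton] at ht
      refine Finset.mem_filter.2 ⟨Finset.mem_univ _, ?_⟩
      have huF : u ∈ F := mem_sup_left (mem_zpowers u)
      have hbF : b ∈ F := mem_sup_right (mem_zpowers b)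
      rcases ht with rfl | rfl | rfl | rfl
      exacts [one_mem _, huF, hbF, mul_mem huF hbF]
    have hc := Finset.card_le_card hsub
    rw [← Fintype.card_subtype, ← Nat.card_eq_fintype_card] at hc
    refine le_trans (le_of_eq ?_) hc
    have h3 : u * b ≠ 1 := fun h => hub (by rw [← inv_eq_of_mul_eq_one_right h, S.inv_eq hu])
    rw [Finset.card_insert_of_notMem, Finset.card_insert_of_notMem, Finset.card_insert_of_notMem,
      Finset.card_singleton]
    · simp only [Finset.mem_singleton]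
      exact fun h => hu1 (mul_eq_right.1 h.symm)
    · simp only [Finset.mem_insert, Finset.mem_singleton, not_or]
      exact ⟨hub, fun h => hb1 (mul_eq_left.1 h.symm)⟩
    · simp only [Finset.mem_insert, Finset.mem_singleton, not_or]
      exact ⟨hu1.symm, hb1.symm, h3.symm⟩
  have hFle : Nat.card F ≤ 4 := by
    have hn : zpowers b ≤ normalizer (zpowers u : Set G) := fun x hx => by
      have hxP : x ∈ (P : Subgroup G) := zpowers_le.2 hb hx
      refine mem_normalizer_iff.2 fun y => ⟨fun hy => ?_, fun hy => ?_⟩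
      · rwa [S.comm hxP (zpowers_le.2 hu hy), mul_inv_cancel_right]
      · have hyP := zpowers_le.2 hu hy
        have : y = x * y * x⁻¹ := by
          have h := congrArg (· * x) (S.comm (inv_mem hxP) hyP)
          simpa [mul_assoc] using h
        rwa [this]
    have h : Nat.card F ≤ Nat.card (zpowers u × zpowers b) := by
      refine Nat.card_le_card_of_surjective
        (fun p => (⟨p.1 * p.2, mul_mem (mem_sup_left p.1.2) (mem_sup_right p.2.2)⟩ : F)) ?_
      rintro ⟨g, hg⟩
      rw [← SetLike.mem_coe, coe_mul_of_right_le_normalizer_left _ _ hn] at hg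
      obtain ⟨w, hw, x, hx, rfl⟩ := hg
      exact ⟨(⟨w, hw⟩, ⟨x, hx⟩), rfl⟩
    rwa [Nat.card_prod, hzu, hzb] at h
  have hF4 : (Nat.card F : ℂ) = 4 := by exact_mod_cast le_antisymm hFle hFcard
  obtain ⟨g, hg⟩ := S.exists_not_le hO hW
  set X := (W P).map (MulAut.conj g).toMonoidHom
  -- the intersection is fixed by `P`
  have hinter : fixedSpace ρ (W P ⊔ F) ⊓ fixedSpace ρ X ≤ fixedSpace ρ (P : Subgroup G) := by
    intro v hv
    obtain ⟨h1, h2⟩ := Submodule.mem_inf.1 hv
    rw [mem_fixedSpace] at h1 h2 ⊢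
    have hle := S.le_M_or_M_le hMt hp hT (K := stabVec ρ v) (fun w hw => h1 w (mem_sup_left hw))
      hu hu1 hb hb1 hub (h1 u (mem_sup_right (mem_sup_left (mem_zpowers u))))
      (h1 b (mem_sup_right (mem_sup_right (mem_zpowers b))))
    rcases hle with h | h
    · exact absurd (fun x hx => h (h2 x hx)) hg
    · exact fun x hx => h (S.P_le_M hx)
  have hsum := Submodule.finrank_sup_add_finrank_inf_eq (fixedSpace ρ (W P ⊔ F)) (fixedSpace ρ X)
  have hsup : Module.finrank ℂ ↥(fixedSpace ρ (W P ⊔ F) ⊔ fixedSpace ρ X) ≤ N :=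
    le_trans (Submodule.finrank_le _) (by simp)
  have hinf : Module.finrank ℂ ↥(fixedSpace ρ (W P ⊔ F) ⊓ fixedSpace ρ X) ≤
      Module.finrank ℂ (fixedSpace ρ (P : Subgroup G)) := Submodule.finrank_mono hinter
  set A := Module.finrank ℂ (fixedSpace ρ (W P ⊔ F))
  set g₀ := Module.finrank ℂ (fixedSpace ρ (W P))
  set r := Module.finrank ℂ (fixedSpace ρ (P : Subgroup G))
  have hXg : Module.finrank ℂ (fixedSpace ρ X) = g₀ := S.finrank_conj ρ g (W P)
  rw [hXg] at hsum
  have hA : (4 : ℤ) * A = g₀ + 3 * d := by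
    have h := S.finrank_W_sup hI hT hu hu1 hχ hρ hF
    rw [hF4, hd] at h
    have h' : (((4 * A : ℤ)) : ℂ) = ((g₀ + 3 * d : ℤ) : ℂ) := by
      push_cast
      linear_combination h
    exact_mod_cast h'
  have hfull := S.finrank_W_sup hI hT hu hu1 hχ hρ (F := (P : Subgroup G)) le_rfl
  rw [hd] at hfull
  set a := Module.finrank ℂ (fixedSpace ρ (W P ⊔ (P : Subgroup G)))
  have hg0 : (q : ℤ) * a = g₀ + ((q : ℤ) - 1) * d := by
    have h' : (((q * a : ℤ)) : ℂ) = ((g₀ + ((q : ℤ) - 1) * d : ℤ) : ℂ) := by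
      push_cast
      linear_combination hfull
    exact_mod_cast h'
  have hf : (charDegree χ.1 : ℤ) = N := by
    have h : ((charDegree χ.1 : ℕ) : ℂ) = (N : ℂ) := by
      rw [Char.charDegree_cast, ← hρ, Representation.char_one, Module.finrank_fin_fun]
    exact_mod_cast Nat.cast_injective h
  have hr : (q : ℤ) * r = N + ((q : ℤ) - 1) * d := by
    have h := card_mul_finrank_fixedSpace ρ (P : Subgroup G)
    rw [hρ, ← Finset.add_sum_erase _ _ (Finset.mem_univ (1 : (P : Subgroup G))),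
      Finset.sum_congr rfl (g := fun _ => χ.1 u) fun x hx => S.apply_eq hT χ x.2
        (fun e => Finset.ne_of_mem_erase hx (Subtype.ext e)) hu hu1, Finset.sum_const,
      Finset.card_erase_of_mem (Finset.mem_univ _), Finset.card_univ, nsmul_eq_mul,
      Nat.cast_sub (Nat.one_le_iff_ne_zero.2 Fintype.card_ne_zero), ← Nat.card_eq_fintype_card,
      hd, OneMemClass.coe_one, ← Char.charDegree_cast] at h
    have h' : (((q * r : ℤ)) : ℂ) = (((charDegree χ.1 : ℤ) + ((q : ℤ) - 1) * d : ℤ) : ℂ) := by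
      push_cast
      push_cast at h
      linear_combination h
    rw [← hf]
    exact_mod_cast h'
  rw [hf]
  have h32' : (32 : ℤ) ≤ q := by exact_mod_cast h32
  have hsum' : (A : ℤ) + g₀ ≤ N + r := by
    have : A + g₀ ≤ N + r := by omega
    exact_mod_cast this
  have ha : (0 : ℤ) ≤ (q : ℤ) * a := mul_nonneg (by positivity) (Int.natCast_nonneg _)
  have hrnn : (0 : ℤ) ≤ r := Int.natCast_nonneg _
  nlinarith [mul_nonneg hrnn (show (0 : ℤ) ≤ (q : ℤ) - 24 by linarith)]

/-- The index of `M`. -/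
theorem index_lt (hO : ∀ K : Subgroup G, K.Normal → Odd (Nat.card K) → K = ⊥)
    (hMt : InvolRankOne.M P ≠ ⊤) (hp : (PrimeInertia.ind P).Prime) (hT : Transitive P)
    (hI : IsPModular 2 I) (hW : W P ≠ ⊥) (h32 : 32 ≤ Nat.card (P : Subgroup G)) :
    (InvolRankOne.M P).index < 6 * Nat.card (P : Subgroup G) := by
  obtain ⟨u, hu, hu1⟩ := S.exists_mem_ne_one
  choose d hd using fun χ : IrrCharacter G => S.exists_int hu χ
  set q := Nat.card (P : Subgroup G) with hqdef
  set B := Finset.univ.filter (fun χ : IrrCharacter G => χ ∈ principalBlock I G) with hBdef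
  have hup := S.sum_cube_le hI hT hu hu1 d hd
  rw [← hqdef, ← hBdef, ← card_mul_index (InvolRankOne.M P)] at hup
  set R := ∑ χ ∈ B, (d χ : ℝ) ^ 3 / charDegree χ.1 with hR
  have hsq : ∑ χ ∈ B, d χ * d χ = (q : ℤ) := by
    have h := S.sum_sq hI hu hu1
    rw [Finset.sum_congr rfl (g := fun χ => ((d χ * d χ : ℤ) : ℂ)) fun χ _ => by
      rw [hd χ, map_intCast, Int.cast_mul], ← Int.cast_sum] at h
    exact_mod_cast h
  set t := Char.trivialChar G
  have ht : t ∈ B := Finset.mem_filter.2 ⟨Finset.mem_univ _, Blocks.trivial_mem_principalBlock⟩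
  have hdt : d t = 1 := by
    have := hd t
    rw [Char.trivialChar_apply] at this
    exact_mod_cast this.symm
  have hft : charDegree t.1 = 1 := by
    have := Char.charDegree_cast t
    rw [Char.trivialChar_apply] at this
    exact_mod_cast this
  have hq32 : (32 : ℝ) ≤ q := by exact_mod_cast h32
  have hrest : ∑ χ ∈ B.erase t, (d χ : ℝ) ^ 2 = (q : ℝ) - 1 := by
    have h1 : ∑ χ ∈ B.erase t, d χ * d χ = (q : ℤ) - 1 := by
      rw [Finset.sum_erase_eq_sub ht, hsq, hdt]; ring
    have := congrArg (Int.cast : ℤ → ℝ) h1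
    push_cast at this
    simpa [pow_two] using this
  set c : ℝ := 5 / ((q : ℝ) + 5 * ((q : ℝ) - 1)) with hc
  have hden : (0 : ℝ) < (q : ℝ) + 5 * ((q : ℝ) - 1) := by linarith
  have hterm : ∀ χ ∈ B.erase t, -(c * (d χ : ℝ) ^ 2) ≤ (d χ : ℝ) ^ 3 / charDegree χ.1 := by
    intro χ hχ
    have hf : (0 : ℝ) < charDegree χ.1 := Nat.cast_pos.2 (Char.charDegree_pos χ)
    rcases le_or_gt 0 (d χ) with hd0 | hd0
    · have h0 : (0 : ℝ) ≤ d χ := by exact_mod_cast hd0
      have : 0 ≤ c * (d χ : ℝ) ^ 2 := mul_nonneg (div_nonneg (by norm_num) hden.le) (sq_nonneg _)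
      have : 0 ≤ (d χ : ℝ) ^ 3 / charDegree χ.1 := div_nonneg (pow_nonneg h0 3) hf.le
      linarith
    · have h5 := S.five_mul_degree hO hMt hp hT hI hW h32 hu hu1
        (Finset.mem_filter.1 (Finset.mem_of_mem_erase hχ)).2 (hd χ) hd0
      have h5' : ((q : ℝ) + 5 * ((q : ℝ) - 1)) * (-(d χ : ℝ)) ≤ 5 * (charDegree χ.1 : ℝ) := by
        exact_mod_cast h5
      rw [hc, div_mul_eq_mul_div, le_div_iff₀ hf, neg_mul, div_mul_eq_mul_div, neg_le,
        ← neg_mul_neg, le_div_iff₀ hden]
      nlinarith [mul_le_mul_of_nonneg_left h5' (sq_nonneg (d χ : ℝ))]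
  have hRlow : (q : ℝ) / ((q : ℝ) + 5 * ((q : ℝ) - 1)) ≤ R := by
    rw [hR, ← Finset.add_sum_erase _ _ ht, hdt, hft]
    refine le_trans ?_ (add_le_add le_rfl (Finset.sum_le_sum hterm))
    rw [Finset.sum_neg_distrib, ← Finset.mul_sum, hrest, hc]
    rw [div_mul_eq_mul_div, ← sub_eq_add_neg, le_sub_iff_add_le, ← add_div,
      div_le_iff₀ hden]
    norm_num
  by_contra hn
  push Not at hn
  have hn' : (6 : ℝ) * q ≤ (InvolRankOne.M P).index := by exact_mod_cast hn
  have hMle : (Nat.card (W P) * q * (q - 1) : ℕ) ≤ Nat.card (InvolRankOne.M P) :=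
    le_trans (Nat.mul_le_mul_left _ (S.le_of_transitive hT)) S.card_W_mul_le
  have hMle' : (Nat.card (W P) : ℝ) * q * ((q : ℝ) - 1) ≤ Nat.card (InvolRankOne.M P) := by
    have := (Nat.cast_le (α := ℝ)).2 hMle
    push_cast [Nat.cast_sub (show 1 ≤ q by omega)] at this
    exact this
  push_cast [Nat.cast_sub (show 2 ≤ q by omega)] at hup
  have hWpos : (0 : ℝ) < Nat.card (W P) := Nat.cast_pos.2 Nat.card_pos
  have hprod := mul_le_mul hMle' hn' (by linarith) (Nat.cast_nonneg _)
  have h1 : (q : ℝ) / ((q : ℝ) + 5 * ((q : ℝ) - 1)) *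
      ((Nat.card (W P) : ℝ) * q * ((q : ℝ) - 1) * (6 * q)) ≤
      (q : ℝ) ^ 2 * ((q : ℝ) - 2) * Nat.card (W P) := by
    refine le_trans (mul_le_mul hRlow hprod ?_ ?_) hup
    · have : (0 : ℝ) ≤ (q : ℝ) - 1 := by linarith
      positivity
    · exact le_trans (div_nonneg (by linarith) hden.le) hRlow
  rw [div_mul_eq_mul_div, div_le_iff₀ hden] at h1
  have hqW : (0 : ℝ) < (q : ℝ) ^ 2 * Nat.card (W P) := by positivity
  nlinarith

end Setup

end Cfsg.Agent.InvolRankOne
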