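import Cfsg.Agent.Lib.PrimeInertia.Frame
import Cfsg.Agent.Lib.Char.Induction

/-!
# The normalizer on the involutions of `P`

When `M` is proper the normalizer permutes the involutions of `P` regularly modulo the centralizer.
-/

set_option autoImplicit false
set_option linter.style.haveILetI false
set_option linter.unusedSectionVars false

namespace Cfsg.Agent.PrimeInertia

open Cfsg Subgroup
open scoped Pointwise Classical

universe u

variable {G : Type u} [Group G] [Fintype G] {P : Sylow 2 G}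

namespace Setup

variable (S : Setup P)
include S

theorem card_omega (hM : M P ≠ ⊤) : Nat.card (omega P) = ind P + 1 := by
  obtain ⟨u, hu, hu1⟩ := S.exists_mem_omega
  set N := normalizer ((P : Subgroup G) : Set G)
  set C := (centralizer ((P : Subgroup G) : Set G)).subgroupOf N
  have hne : ∀ q : N ⧸ C, (q.out : G) * u * (q.out : G)⁻¹ ≠ 1 := fun q h => hu1 (conj_eq_one_iff.1 h)
  have key : Nat.card {t : omega P // t ≠ 1} = ind P := by
    rw [ind, relIndex, index_eq_card]
    refine (Nat.card_congr (Equiv.ofBijective (fun q : N ⧸ C =>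
      (⟨⟨(q.out : G) * u * (q.out : G)⁻¹, omega_conj_mem q.out.2 hu⟩,
        fun h => hne q (congrArg Subtype.val h)⟩ : {t : omega P // t ≠ 1})) ⟨?_, ?_⟩)).symm
    · intro q r h
      have h' : (q.out : G) * u * (q.out : G)⁻¹ = (r.out : G) * u * (r.out : G)⁻¹ :=
        congrArg (fun t : {t : omega P // t ≠ 1} => ((t : omega P) : G)) h
      rw [← Quotient.out_eq q, ← Quotient.out_eq r]
      refine QuotientGroup.eq.2 (mem_subgroupOf.2
        (S.free _ (q.out⁻¹ * r.out).2 u (omega_le hu) hu1 ?_))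
      push_cast
      have := congrArg (fun t => (q.out : G)⁻¹ * t * (r.out : G)) h'
      simpa [mul_assoc] using this.symm
    · rintro ⟨⟨t, ht⟩, ht1⟩
      have ht1' : t ≠ 1 := fun h => ht1 (Subtype.ext h)
      obtain ⟨n, hn, rfl⟩ := S.transitive hM hu hu1 ht ht1'
      refine ⟨((⟨n, hn⟩ : N) : N ⧸ C), Subtype.ext (Subtype.ext ?_)⟩
      obtain ⟨c, hc⟩ := QuotientGroup.mk_out_eq_mul C (⟨n, hn⟩ : N)
      show ((((⟨n, hn⟩ : N) : N ⧸ C).out : N) : G) * u * _ = n * u * n⁻¹
      rw [hc]
      have hca := mem_centralizer_iff.1 (mem_subgroupOf.1 c.2) u (omega_le hu)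
      push_cast
      calc n * ((c : N) : G) * u * (n * ((c : N) : G))⁻¹
          = n * (((c : N) : G) * u) * ((c : N) : G)⁻¹ * n⁻¹ := by group
        _ = n * u * n⁻¹ := by rw [← hca]; group
  rw [← key, Nat.card_eq_fintype_card (α := {t : omega P // t ≠ 1}), Fintype.card_subtype_compl,
    Fintype.card_subtype_eq, ← Nat.card_eq_fintype_card]
  have : 0 < Nat.card (omega P) := Nat.card_pos
  omega

theorem omega_le_of_invariant (hM : M P ≠ ⊤) {K : Subgroup G} (hK : K ≤ (P : Subgroup G))
    (h1 : K ≠ ⊥)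
    (hinv : ∀ n ∈ normalizer ((P : Subgroup G) : Set G), ∀ x ∈ K, n * x * n⁻¹ ∈ K) :
    omega P ≤ K := by
  obtain ⟨t, ht, ht2⟩ := exists_involution_of_ne_bot hK h1
  intro s hs
  by_cases hs1 : s = 1
  · rw [hs1]; exact one_mem _
  obtain ⟨n, hn, rfl⟩ := S.transitive hM (mem_omega_of_orderOf (hK ht) ht2)
    (fun h => by rw [h, orderOf_one] at ht2; exact absurd ht2 (by norm_num)) hs hs1
  exact hinv n hn t ht

theorem omega_sq_le (hM : M P ≠ ⊤) (h : omega P ≠ (P : Subgroup G)) :
    Nat.card (omega P) * Nat.card (omega P) ≤ Nat.card (P : Subgroup G) := by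
  let sqH : (P : Subgroup G) →* G :=
    { toFun := fun x => (x : G) * x
      map_one' := by simp
      map_mul' := fun a b => by
        push_cast
        rw [show (a : G) * b * (a * b) = a * (b * a) * b by group, S.comm b b.2 a a.2]
        group }
  have hrP : sqH.range ≤ (P : Subgroup G) := by
    rintro _ ⟨x, rfl⟩
    exact mul_mem x.2 x.2
  have hr1 : sqH.range ≠ ⊥ := fun h0 => h (le_antisymm omega_le fun x hx => by
    refine mem_omega_of_sq hx ?_
    have : sqH ⟨x, hx⟩ ∈ sqH.range := ⟨_, rfl⟩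
    rw [h0, mem_bot] at this
    exact this)
  have hle := S.omega_le_of_invariant hM hrP hr1 (by
    rintro n hn _ ⟨x, rfl⟩
    refine ⟨⟨n * x * n⁻¹, (mem_normalizer_iff.1 hn x).1 x.2⟩, ?_⟩
    show n * (x : G) * n⁻¹ * (n * x * n⁻¹) = n * ((x : G) * x) * n⁻¹
    group)
  have hker : Nat.card sqH.ker = Nat.card (omega P) :=
    Nat.card_congr
      { toFun := fun x => ⟨x.1, mem_omega_of_sq x.1.2 (MonoidHom.mem_ker.1 x.2)⟩
        invFun := fun t => ⟨⟨t, omega_le t.2⟩, MonoidHom.mem_ker.2 (S.sq_of_mem_omega t.2)⟩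
        left_inv := fun x => rfl
        right_inv := fun t => rfl }
  calc Nat.card (omega P) * Nat.card (omega P) ≤ Nat.card sqH.ker * Nat.card sqH.range :=
        Nat.mul_le_mul hker.ge (Nat.card_le_card_of_injective _ (inclusion_injective hle))
    _ = Nat.card (P : Subgroup G) := by
        rw [← index_ker, card_mul_index]

/-- A linear character of `P` lifted to `H` and extended by zero. -/
noncomputable def lift (lam : (P : Subgroup G) →* ℂ) : G → ℂ :=
  extendByZero (H P) fun h => lam (S.proj h)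

theorem lift_conj_omega {lam : (P : Subgroup G) →* ℂ} {w n t : G} (hw : w ∈ W P)
    (hn : n ∈ normalizer ((P : Subgroup G) : Set G)) (ht : t ∈ omega P) :
    S.lift lam (w * n * t * (w * n)⁻¹) = lam ⟨n * t * n⁻¹, omega_le (omega_conj_mem hn ht)⟩ := by
  have htH : t ∈ H P := P_le_H (omega_le ht)
  have hmem : w * n * t * (w * n)⁻¹ ∈ H P :=
    S.conj_mem_H (mul_mem (S.W_le_M hw) (S.N_le_M hn)) htH
  rw [lift, Char.extendByZero_of_mem _ _ hmem]
  refine congrArg lam (Subtype.ext ?_)
  rw [S.proj_conj hw hn ⟨t, htH⟩ hmem, S.proj_of_mem_P (omega_le ht)]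

theorem lift_conj_of_trivial {lam : (P : Subgroup G) →* ℂ}
    (hl : ∀ t : (P : Subgroup G), (t : G) ∈ omega P → lam t = 1) {a t : G} (ha : a ∈ M P)
    (ht : t ∈ omega P) : S.lift lam (a * t * a⁻¹) = 1 := by
  obtain ⟨w, hw, n, hn, rfl⟩ := S.exists_decomp_M ha
  rw [S.lift_conj_omega hw hn ht]
  exact hl _ (omega_conj_mem hn ht)

/-- The sum of a character nontrivial on the involutions over a group transitive on them. -/
theorem ind_mul_sum_lift (hM : M P ≠ ⊤) {K : Subgroup G}
    (hK1 : normalizer ((P : Subgroup G) : Set G) ≤ K) (hK2 : K ≤ M P)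
    {lam : (P : Subgroup G) →* ℂ}
    (hl : ∃ t : (P : Subgroup G), (t : G) ∈ omega P ∧ lam t ≠ 1) {u : G} (hu : u ∈ omega P)
    (hu1 : u ≠ 1) : (ind P : ℂ) * ∑ a : K, S.lift lam (a * u * (a : G)⁻¹) = -(Nat.card K : ℂ) := by
  haveI : Fintype (omega P) := Fintype.ofFinite _
  set T : G → ℂ := fun t => ∑ a : K, S.lift lam (a * t * (a : G)⁻¹)
  have hT1 : T 1 = (Nat.card K : ℂ) := by
    simp only [T, mul_one, mul_inv_cancel]
    rw [lift, Char.extendByZero_of_mem _ _ (one_mem _), show (⟨1, _⟩ : H P) = 1 from rfl, map_one,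
      map_one, Finset.sum_const, Finset.card_univ, nsmul_eq_mul, mul_one, Nat.card_eq_fintype_card]
  have hT : ∀ t : omega P, t ≠ 1 → T t = T u := by
    intro t ht
    obtain ⟨n, hn, e⟩ := S.transitive hM hu hu1 t.2 fun h => ht (Subtype.ext h)
    refine Fintype.sum_equiv (Equiv.mulRight (⟨n, hK1 hn⟩ : K)) _ _ fun a => ?_
    show S.lift lam (a * t * (a : G)⁻¹) = S.lift lam (a * n * u * ((a : G) * n)⁻¹)
    rw [← e]
    congr 1
    group
  have h0 : ∑ t : omega P, T t = 0 := by
    rw [Finset.sum_comm]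
    refine Finset.sum_eq_zero fun a _ => ?_
    obtain ⟨w, hw, n, hn, e⟩ := S.exists_decomp_M (hK2 a.2)
    let f : omega P →* ℂ :=
      { toFun := fun t => lam ⟨n * t * n⁻¹, omega_le (omega_conj_mem hn t.2)⟩
        map_one' := by rw [show (⟨_, _⟩ : (P : Subgroup G)) = 1 from Subtype.ext (by simp), map_one]
        map_mul' := fun s t => by
          rw [← map_mul]
          exact congrArg lam (Subtype.ext (by push_cast; group)) }
    have hf : f ≠ 1 := by
      obtain ⟨t, ht, ht1⟩ := hl
      intro hf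
      have := DFunLike.congr_fun hf
        ⟨n⁻¹ * t * n, by simpa using omega_conj_mem (inv_mem hn) ht⟩
      refine ht1 ?_
      rw [MonoidHom.one_apply] at this
      rw [← this]
      exact congrArg lam (Subtype.ext (by simp [mul_assoc]))
    rw [Finset.sum_congr rfl (g := fun t : omega P => f t) fun t _ => ?_]
    · exact (sum_hom_units_eq_zero f hf)
    · rw [← e]
      exact S.lift_conj_omega hw hn t.2
  rw [← Finset.add_sum_erase _ _ (Finset.mem_univ (1 : omega P)), OneMemClass.coe_one, hT1,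
    Finset.sum_congr rfl fun t ht => hT t (Finset.ne_of_mem_erase ht), Finset.sum_const,
    Finset.card_erase_of_mem (Finset.mem_univ _), Finset.card_univ, ← Nat.card_eq_fintype_card,
    S.card_omega hM, Nat.add_sub_cancel, nsmul_eq_mul] at h0
  exact eq_neg_of_add_eq_zero_right h0

end Setup

end Cfsg.Agent.PrimeInertia
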