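import Cfsg.Agent.Lib.PrimeInertia.IndexBound
import Cfsg.Agent.Lib.PrimeInertia.Orbit
import Cfsg.Agent.Lib.PSL2.Basic
import Cfsg.Agent.Lib.CharInt.Kazarin
import Cfsg.Agent.S1230

/-!
# The signalizer is trivial

For a prime automizer `|P| - 1 ≥ 31` the group `W` is abelian of exponent dividing 15, each
element of `W` outside the centralizer of `P` that centralizes two involutions of `P` fixes only
the coset `M`, and this leaves only `W` of order 3 or 5 central in `M`, which transfer excludes.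
-/

set_option autoImplicit false
set_option linter.style.haveILetI false
set_option linter.unusedSectionVars false

namespace Cfsg.Agent.InvolRankOne

open Cfsg Subgroup
open scoped Pointwise Classical

universe u

variable {G : Type u} [Group G]

/-- A subgroup of index at most five of a group of odd order is normal. -/
theorem normal_of_index_le_five [Finite G] (hodd : Odd (Nat.card G)) (D : Subgroup G)
    (h5 : D.index ≤ 5) : D.Normal := by
  haveI := Fintype.ofFinite G
  haveI := Fintype.ofFinite (G ⧸ D)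
  by_contra hn
  have hw : Fintype.card (G ⧸ D) = D.index := by rw [index_eq_card, Nat.card_eq_fintype_card]
  have hwodd : Odd D.index := hodd.of_dvd_nat (index_dvd_card D)
  have horb : ∀ x : G ⧸ D, Odd (Nat.card (MulAction.orbit D x)) := fun x => by
    have h := Nat.card_congr (MulAction.orbitEquivQuotientStabilizer D x)
    rw [h, ← index_eq_card]
    exact (hodd.of_dvd_nat (card_subgroup_dvd_card D)).of_dvd_nat (index_dvd_card _)
  set x₀ : G ⧸ D := ((1 : G) : G ⧸ D)
  have hx₀ : ∀ d : D, d • x₀ = x₀ := fun d => by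
    show (((d : G) * 1 : G) : G ⧸ D) = _
    exact QuotientGroup.eq.2 (by simpa using inv_mem d.2)
  -- a moved point
  obtain ⟨y, hy⟩ : ∃ y : G ⧸ D, ∃ d : D, d • y ≠ y := by
    by_contra h
    push Not at h
    refine hn ⟨fun d hd g => ?_⟩
    have h1 := h ((g⁻¹ : G) : G ⧸ D) ⟨d, hd⟩
    have h2 : (((d * g⁻¹ : G)) : G ⧸ D) = ((g⁻¹ : G) : G ⧸ D) := h1
    have h3 := QuotientGroup.eq.1 h2.symm
    simpa [mul_assoc] using h3
  obtain ⟨d₀, hd₀⟩ := hy
  set O1 := (MulAction.orbit D y).toFinset
  have hO1card : O1.card = Nat.card (MulAction.orbit D y) := by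
    rw [Set.toFinset_card, Nat.card_eq_fintype_card]
  have h2 : 2 ≤ O1.card := by
    refine le_trans (le_of_eq (Finset.card_pair hd₀).symm) (Finset.card_le_card ?_)
    intro t ht
    simp only [Finset.mem_insert, Finset.mem_singleton] at ht
    rcases ht with rfl | rfl
    · exact Set.mem_toFinset.2 ⟨d₀, rfl⟩
    · exact Set.mem_toFinset.2 (MulAction.mem_orbit_self _)
  have h3 : 3 ≤ O1.card := by
    have := horb y
    rw [← hO1card] at this
    rcases this with ⟨k, hk⟩
    omega
  have hxO : x₀ ∉ O1 := fun h => by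
    obtain ⟨d, hd⟩ := Set.mem_toFinset.1 h
    have h1 : y = x₀ := by
      rw [← inv_smul_smul d y, show d • y = x₀ from hd, hx₀]
    exact hd₀ (by rw [h1, hx₀])
  have hle : O1.card + 1 ≤ D.index := by
    rw [← hw, ← Finset.card_insert_of_notMem hxO]
    exact Finset.card_le_univ _
  -- the last point is fixed
  have h15 : D.index = 5 ∧ O1.card = 3 := by
    obtain ⟨k, hk⟩ := hwodd
    have := horb y
    rw [← hO1card] at this
    obtain ⟨l, hl⟩ := this
    omega
  obtain ⟨z, hz⟩ : ∃ z, z ∉ insert x₀ O1 := by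
    by_contra h
    push Not at h
    have : Fintype.card (G ⧸ D) ≤ (insert x₀ O1).card :=
      Finset.card_le_card fun t _ => h t
    rw [Finset.card_insert_of_notMem hxO, hw] at this
    omega
  rw [Finset.mem_insert, not_or] at hz
  have hzfix : ∀ d : D, d • z = z := fun d => by
    by_contra hdz
    have hsub : insert z ({d • z} : Finset (G ⧸ D)) ∪ insert x₀ O1 ⊆ Finset.univ := Finset.subset_univ _
    have hdis : Disjoint (insert z ({d • z} : Finset (G ⧸ D))) (insert x₀ O1) := by
      rw [Finset.disjoint_left]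
      intro t ht ht'
      simp only [Finset.mem_insert, Finset.mem_singleton] at ht ht'
      rcases ht with rfl | rfl
      · rcases ht' with h | h
        exacts [hz.1 h, hz.2 h]
      · rcases ht' with h | h
        · exact hz.1 (by rw [← inv_smul_smul d z, h, hx₀])
        · obtain ⟨d', hd'⟩ := Set.mem_toFinset.1 h
          refine hz.2 (Set.mem_toFinset.2 ⟨d⁻¹ * d', ?_⟩)
          show (d⁻¹ * d') • y = z
          rw [mul_smul, show d' • y = d • z from hd', inv_smul_smul]
    have := Finset.card_le_card hsub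
    rw [Finset.card_union_of_disjoint hdis, Finset.card_pair (Ne.symm hdz),
      Finset.card_insert_of_notMem hxO, Finset.card_univ, hw] at this
    omega
  obtain ⟨g, rfl⟩ := QuotientGroup.mk_surjective z
  have hgN : g ∈ normalizer (D : Set G) := by
    have hm : ∀ d ∈ D, g⁻¹ * d * g ∈ D := fun d hd => by
      have h1 : (((d * g : G)) : G ⧸ D) = (g : G ⧸ D) := hzfix ⟨d, hd⟩
      have h2 := QuotientGroup.eq.1 h1.symm
      simpa [mul_assoc] using h2
    have hmap : D.map (MulAut.conj g⁻¹).toMonoidHom = D := by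
      refine eq_of_le_of_card_ge ?_ (card_map_of_injective (MulEquiv.injective _)).ge
      rintro _ ⟨d, hd, rfl⟩
      show g⁻¹ * d * g⁻¹⁻¹ ∈ D
      rw [inv_inv]
      exact hm d hd
    rw [← inv_mem_iff]
    refine mem_normalizer_iff.2 fun d => ⟨fun hd => ?_, fun hd => ?_⟩
    · simpa using hm d hd
    · rw [← hmap] at hd
      obtain ⟨d', hd', e⟩ := hd
      have : g⁻¹ * d' * g⁻¹⁻¹ = g⁻¹ * d * g⁻¹⁻¹ := e
      rw [mul_left_inj, mul_right_inj] at this
      rwa [← this]
  have hgD : g ∉ D := fun h => hz.1 (QuotientGroup.eq.2 (by simpa using inv_mem h))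
  have hdvd : D.relIndex (normalizer (D : Set G)) ∣ 5 := h15.1 ▸ by
    rw [← relIndex_mul_index (le_normalizer (H := D))]
    exact dvd_mul_right _ _
  rcases (Nat.dvd_prime (by norm_num : Nat.Prime 5)).1 hdvd with h | h
  · exact hgD (relIndex_eq_one.1 h hgN)
  · refine hn (normalizer_eq_top_iff.1 (index_eq_one.1 ?_))
    have h4 := relIndex_mul_index (le_normalizer (H := D))
    rw [h, h15.1] at h4
    omega

namespace Setup

variable [Fintype G] {P : Sylow 2 G} (S : Setup P)
include S

theorem relIndex_modEq (hM : InvolRankOne.M P ≠ ⊤) {K : Subgroup G} (hK : InvolRankOne.M P ≤ K) :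
    (InvolRankOne.M P).relIndex K ≡ 1 [MOD Nat.card (P : Subgroup G)] := by
  haveI : Fact (Nat.Prime 2) := ⟨Nat.prime_two⟩
  set H := InvolRankOne.M P with hH
  set H' := H.subgroupOf K
  haveI := Fintype.ofFinite (K ⧸ H')
  let P' : Subgroup K := (P : Subgroup G).subgroupOf K
  have hPK : (P : Subgroup G) ≤ K := S.P_le_M.trans hK
  have hcard : Nat.card P' = Nat.card (P : Subgroup G) := Nat.card_congr (subgroupOfEquivOfLe hPK).toEquiv
  have h1 : ∀ x : P', Fintype.card (MulAction.fixedBy (K ⧸ H') x) =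
      if x = 1 then H'.index else 1 := by
    intro x
    rw [← Nat.card_eq_fintype_card]
    split_ifs with hx
    · subst hx
      rw [index_eq_card]
      exact Nat.card_congr (Equiv.subtypeUnivEquiv fun v => by simp)
    · refine Nat.card_eq_one_iff_unique.2 ⟨⟨fun a b => Subtype.ext ?_⟩, ⟨⟨((1 : K) : K ⧸ H'), ?_⟩⟩⟩
      · have hfix : ∀ c : MulAction.fixedBy (K ⧸ H') x, (c : K ⧸ H') = ((1 : K) : K ⧸ H') := by
          rintro ⟨c, hc⟩
          obtain ⟨k, rfl⟩ := QuotientGroup.mk_surjective c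
          have h2 : ((((x : K) * k : K)) : K ⧸ H') = (k : K ⧸ H') := hc
          have h3 : (k : G)⁻¹ * (((x : K) : G) * k) ∈ H :=
            mem_subgroupOf.1 (QuotientGroup.eq.1 h2.symm)
          refine QuotientGroup.eq.2 ?_
          have hx1 : ((x : K) : G) ≠ 1 := fun e => hx (Subtype.ext (Subtype.ext e))
          have := S.mem_M_of_conj hM (g := (k : G)⁻¹) (S.P_le_M x.2)
            (S.orderOf_eq_two x.2 hx1) (by simpa [mul_assoc] using h3)
          simpa [H', mem_subgroupOf] using this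
        rw [hfix a, hfix b]
      · show ((((x : K) * 1 : K)) : K ⧸ H') = _
        refine QuotientGroup.eq.2 ?_
        simpa [H', mem_subgroupOf] using S.P_le_M x.2
  have h := MulAction.sum_card_fixedBy_eq_card_orbits_mul_card_group P' (K ⧸ H')
  simp only [h1] at h
  rw [← Finset.add_sum_erase _ _ (Finset.mem_univ (1 : P')), if_pos rfl,
    Finset.sum_congr rfl fun x hx => if_neg (Finset.ne_of_mem_erase hx), Finset.sum_const,
    Finset.card_erase_of_mem (Finset.mem_univ _), Finset.card_univ, smul_eq_mul, mul_one,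
    ← Nat.card_eq_fintype_card (α := P'), hcard] at h
  have hq : 0 < Nat.card (P : Subgroup G) := Nat.card_pos
  have hc : ∀ m, H'.index + (Nat.card (P : Subgroup G) - 1) = m * Nat.card (P : Subgroup G) →
      H'.index ≡ 1 [MOD Nat.card (P : Subgroup G)] := fun m hm => by
    refine Nat.ModEq.add_right_cancel' (Nat.card (P : Subgroup G) - 1) ?_
    rw [hm, Nat.add_sub_cancel' hq, Nat.ModEq, Nat.mul_mod_left, Nat.mod_self]
  exact hc _ h

theorem exists_relIndex_dvd (hM : InvolRankOne.M P ≠ ⊤) {g : G} (hg : g ∉ InvolRankOne.M P) :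
    ∃ j, 0 < j ∧ Nat.card (P : Subgroup G) * j + 1 ≤ (InvolRankOne.M P).index ∧
      ((InvolRankOne.M P).map (MulAut.conj g).toMonoidHom).relIndex (W P) ∣
        Nat.card (P : Subgroup G) * j := by
  haveI : Fact (Nat.Prime 2) := ⟨Nat.prime_two⟩
  have hSE := S.isStronglyEmbedded hM
  obtain ⟨k, hk⟩ := IsPGroup.iff_card.1 P.2
  haveI hWn : ((W P).subgroupOf (InvolRankOne.M P)).Normal :=
    normal_subgroupOf_of_le_normalizer S.W_le_normalizer
  set H := InvolRankOne.M P with hH
  set D := (H ⊓ H.map (MulAut.conj g).toMonoidHom).subgroupOf H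
  have hDodd : Odd (Nat.card D) := by
    rw [Nat.card_congr (subgroupOfEquivOfLe inf_le_left).toEquiv]
    exact hSE.2.2 g hg
  have hle : D.index + 1 ≤ H.index := by
    rw [index_eq_card, index_eq_card, ← Finite.card_option]
    refine Nat.card_le_card_of_injective
      (fun q : Option (H ⧸ D) => q.elim ((1 : G) : G ⧸ H)
        fun q => ((((q.out : H) : G) * g : G) : G ⧸ H)) ?_
    have hne : ∀ m : H, (((m : G) * g : G) : G ⧸ H) ≠ ((1 : G) : G ⧸ H) := fun m h => by
      have h' := QuotientGroup.eq.1 h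
      rw [mul_one, inv_mem_iff] at h'
      exact hg (by simpa using mul_mem (inv_mem m.2) h')
    rintro (_ | q) (_ | r) h
    · rfl
    · exact absurd h.symm (hne _)
    · exact absurd h (hne _)
    · simp only [Option.elim_some] at h
      congr 1
      have h' := QuotientGroup.eq.1 h
      rw [← Quotient.out_eq q, ← Quotient.out_eq r]
      refine QuotientGroup.eq.2 ?_
      rw [mem_subgroupOf, mem_inf]
      refine ⟨mul_mem (inv_mem q.out.2) r.out.2, _, h', ?_⟩
      show g * _ * g⁻¹ = _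
      push_cast
      group
  have hdvd : Nat.card (P : Subgroup G) ∣ D.index := by
    have h1 : Nat.card (P : Subgroup G) ∣ Nat.card D * D.index := by
      rw [card_mul_index]; exact card_dvd_of_le S.P_le_M
    refine Nat.Coprime.dvd_of_dvd_mul_left ?_ h1
    rw [hk]
    exact (Nat.coprime_two_left.2 hDodd).pow_left k
  obtain ⟨j, hj⟩ := hdvd
  refine ⟨j, ?_, by rw [← hj]; exact hle, ?_⟩
  · rcases Nat.eq_zero_or_pos j with h | h
    · rw [h, mul_zero] at hj; exact absurd hj index_ne_zero_of_finite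
    · exact h
  · have h1 := relIndex_dvd_index D ((W P).subgroupOf H)
    rw [relIndex_subgroupOf (show W P ≤ H from le_sup_left), hj] at h1
    rwa [← inf_relIndex_right, inf_assoc, inf_comm H, inf_assoc,
      inf_eq_left.2 (show W P ≤ H from le_sup_left), inf_relIndex_right] at h1

set_option maxHeartbeats 2000000 in
/-- `W` is trivial for a prime automizer transitive on at least 31 involutions. -/
theorem W_eq_bot_of_prime (hO : ∀ K : Subgroup G, K.Normal → Odd (Nat.card K) → K = ⊥)
    (hMt : InvolRankOne.M P ≠ ⊤) (hp : (PrimeInertia.ind P).Prime) (hT : Transitive P)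
    (h32 : 32 ≤ Nat.card (P : Subgroup G)) : W P = ⊥ := by
  haveI : Fact (Nat.Prime 2) := ⟨Nat.prime_two⟩
  obtain ⟨I, hI⟩ := CharInt.exists_isPModular_of_prime Nat.prime_two
  haveI : I.IsMaximal := hI.2.1
  by_contra hW
  set q := Nat.card (P : Subgroup G) with hqdef
  set e := PrimeInertia.ind P with hedef
  have hpM : PrimeInertia.M P ≠ ⊤ := by rw [S.prime_M_eq]; exact hMt
  have he : e + 1 = q := by
    have := S.toPrime.card_omega hpM
    rw [S.omega_eq_self] at this
    exact this.symm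
  have hn6 := S.index_lt hO hMt hp hT hI hW h32
  set n := (InvolRankOne.M P).index with hndef
  have hnmod := S.index_modEq hMt
  rw [← hqdef, ← hndef] at hnmod
  obtain ⟨k, hk⟩ := IsPGroup.iff_card.1 P.2
  rw [← hqdef] at hk
  -- the indices of the stabilizers in `W`
  let Dg : G → Subgroup (W P) := fun g =>
    ((InvolRankOne.M P).map (MulAut.conj g).toMonoidHom).subgroupOf (W P)
  have hDg : ∀ g, g ∉ InvolRankOne.M P →
      (Dg g).Normal ∧ ((Dg g).index = 1 ∨ (Dg g).index = 3 ∨ (Dg g).index = 5) := by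
    intro g hg
    obtain ⟨j, hj0, hj, hdvd⟩ := S.exists_relIndex_dvd hMt hg
    have hodd : Odd (Dg g).index := S.W_odd.of_dvd_nat (index_dvd_card _)
    have hj5 : j ≤ 5 := by
      by_contra h
      have : q * 6 ≤ q * j := Nat.mul_le_mul_left _ (by omega)
      rw [← hqdef, ← hndef] at hj
      omega
    have hdj : (Dg g).index ∣ j := by
      refine Nat.Coprime.dvd_of_dvd_mul_left ?_ hdvd
      rw [← hqdef, hk]
      exact (Nat.coprime_two_right.2 hodd).pow_right k
    have hle : (Dg g).index ≤ 5 := (Nat.le_of_dvd hj0 hdj).trans hj5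
    refine ⟨normal_of_index_le_five S.W_odd _ hle, ?_⟩
    obtain ⟨i, hi⟩ := hodd
    omega
  have hWall : ∀ g, g ∈ InvolRankOne.M P →
      W P ≤ (InvolRankOne.M P).map (MulAut.conj g).toMonoidHom := fun g hg w hw =>
    ⟨g⁻¹ * w * g, mul_mem (mul_mem (inv_mem hg) (mem_sup_left hw)) hg, by
      show g * (g⁻¹ * w * g) * g⁻¹ = w
      group⟩
  have hW15 : ∀ w ∈ W P, w ^ 15 = 1 := fun w hw => by
    refine S.eq_one_of_forall_mem hO (pow_mem hw _) fun g => ?_
    by_cases hg : g ∈ InvolRankOne.M P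
    · exact hWall g hg (pow_mem hw _)
    obtain ⟨hn, hi⟩ := hDg g hg
    haveI := hn
    have h1 : (⟨w, hw⟩ : W P) ^ 15 ∈ Dg g := by
      obtain ⟨c, hc⟩ : (Dg g).index ∣ 15 := by
        rcases hi with h | h | h <;> rw [h] <;> norm_num
      rw [hc, pow_mul]
      exact pow_mem (pow_index_mem (Dg g) _) _
    exact h1
  have hWab : ∀ a ∈ W P, ∀ b ∈ W P, a * b = b * a := fun a ha b hb => by
    have h1 : a * b * a⁻¹ * b⁻¹ = 1 := by
      refine S.eq_one_of_forall_mem hO (mul_mem (mul_mem (mul_mem ha hb) (inv_mem ha)) (inv_mem hb))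
        fun g => ?_
      by_cases hg : g ∈ InvolRankOne.M P
      · exact hWall g hg (mul_mem (mul_mem (mul_mem ha hb) (inv_mem ha)) (inv_mem hb))
      obtain ⟨hn, hi⟩ := hDg g hg
      haveI := hn
      haveI : IsCyclic (W P ⧸ Dg g) := by
        rcases hi with h | h | h
        · haveI : Subsingleton (W P ⧸ Dg g) := by
            rw [← Finite.card_le_one_iff_subsingleton, ← index_eq_card, h]
          infer_instance
        all_goals
          haveI : Fact (Nat.Prime (Dg g).index) := ⟨by rw [h]; norm_num⟩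
          exact isCyclic_of_prime_card (p := (Dg g).index) (by rw [index_eq_card])
      obtain ⟨z, hz⟩ := IsCyclic.exists_generator (α := W P ⧸ Dg g)
      obtain ⟨i, hi'⟩ := mem_zpowers_iff.1 (hz ((⟨a, ha⟩ : W P) : W P ⧸ Dg g))
      obtain ⟨j, hj'⟩ := mem_zpowers_iff.1 (hz ((⟨b, hb⟩ : W P) : W P ⧸ Dg g))
      have h2 : (⟨a, ha⟩ : W P) * ⟨b, hb⟩ * (⟨a, ha⟩ : W P)⁻¹ * (⟨b, hb⟩ : W P)⁻¹ ∈ Dg g := by
        rw [← QuotientGroup.eq_one_iff]
        simp only [QuotientGroup.mk_mul, QuotientGroup.mk_inv, ← hi', ← hj']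
        group
      exact h2
    rwa [mul_inv_eq_one, mul_inv_eq_iff_eq_mul] at h1
  -- `M` is the normalizer of `W`
  have hsplit : ∀ K : Subgroup G, InvolRankOne.M P ≤ K → K ≠ InvolRankOne.M P → K = ⊤ := by
    intro K hK hne
    have h1 := S.relIndex_modEq hMt hK
    rw [← hqdef] at h1
    have h2 := relIndex_mul_index hK
    rw [← hndef] at h2
    have hk1 : (InvolRankOne.M P).relIndex K ≠ 1 := fun h =>
      hne (le_antisymm (relIndex_eq_one.1 h) hK)
    set a := (InvolRankOne.M P).relIndex K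
    set b := K.index
    have hb : b ≡ 1 [MOD q] := by
      have h3 : a * b ≡ 1 * b [MOD q] := Nat.ModEq.mul_right _ h1
      rw [h2, one_mul] at h3
      exact h3.symm.trans hnmod
    have ha0 : a ≠ 0 := fun h => by
      rw [h, zero_mul] at h2
      exact index_ne_zero_of_finite h2.symm
    refine index_eq_one.1 ?_
    by_contra hb1
    have hbig : ∀ c : ℕ, c ≡ 1 [MOD q] → c ≠ 0 → c ≠ 1 → q + 1 ≤ c := fun c hc h0 h1 => by
      by_contra hlt
      rw [Nat.ModEq, Nat.mod_eq_of_lt (show 1 < q by omega)] at hc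
      rcases Nat.lt_or_ge c q with h | h
      · rw [Nat.mod_eq_of_lt h] at hc; omega
      · rw [show c = q by omega, Nat.mod_self] at hc; omega
    have := Nat.mul_le_mul (hbig a h1 ha0 hk1) (hbig b hb index_ne_zero_of_finite hb1)
    nlinarith
  have hNW : normalizer (W P : Set G) = InvolRankOne.M P := by
    by_contra h
    have hn := normalizer_eq_top_iff.1 (hsplit _ S.W_le_normalizer h)
    exact hW (hO _ hn S.W_odd)
  -- elements of `M` killed by 15 lie in `W`
  have he31 : 31 ≤ e := by omega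
  have hmemW : ∀ x ∈ InvolRankOne.M P, x ^ 15 = 1 → x ∈ W P := by
    intro x hx hx15
    rw [← S.prime_M_eq] at hx
    rw [← S.prime_W_eq]
    haveI := S.toPrime.H_normal
    have h1 : (⟨x, hx⟩ : PrimeInertia.M P) ^ e ∈ (PrimeInertia.H P).subgroupOf (PrimeInertia.M P) := by
      have := pow_index_mem ((PrimeInertia.H P).subgroupOf (PrimeInertia.M P))
        (⟨x, hx⟩ : PrimeInertia.M P)
      rwa [show ((PrimeInertia.H P).subgroupOf (PrimeInertia.M P)).index = e from
        S.toPrime.relIndex_H] at this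
    have h2 : x ^ e ∈ PrimeInertia.W P :=
      (S.toPrime.proj_eq_one_iff (h := ⟨x ^ e, h1⟩)).1 (S.toPrime.proj_eq_one_iff_odd.2
        ((show Odd 15 by decide).of_dvd_nat (orderOf_dvd_of_pow_eq_one (by
          show (x ^ e) ^ 15 = 1
          rw [← pow_mul, mul_comm, pow_mul, hx15, one_pow]))))
    have hcop : Nat.Coprime e 15 := by
      rw [Nat.Prime.coprime_iff_not_dvd hp]
      intro h
      have := Nat.le_of_dvd (by norm_num) h
      omega
    obtain ⟨m, hm⟩ := exists_pow_eq_self_of_coprime (x := x)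
      (Nat.Coprime.coprime_dvd_right (orderOf_dvd_of_pow_eq_one hx15) hcop)
    rw [← hm]
    exact pow_mem h2 m
  have hconjM : ∀ g, g ∉ InvolRankOne.M P → ∀ K : Subgroup G,
      (W P).map (MulAut.conj g).toMonoidHom ≤ K → ¬ K ≤ InvolRankOne.M P := by
    intro g hg K hK hKM
    refine hg (hNW ▸ ?_)
    have hle : (W P).map (MulAut.conj g).toMonoidHom ≤ W P := by
      rintro _ ⟨w, hw, rfl⟩
      refine hmemW _ (hKM (hK ⟨w, hw, rfl⟩)) ?_
      rw [← map_pow, hW15 w hw, map_one]
    have heq : (W P).map (MulAut.conj g).toMonoidHom = W P :=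
      eq_of_le_of_card_ge hle (card_map_of_injective (MulEquiv.injective _)).ge
    refine mem_normalizer_iff.2 fun w => ⟨fun hw => hle ⟨w, hw, rfl⟩, fun hw => ?_⟩
    rw [← heq] at hw
    obtain ⟨w', hw', e'⟩ := hw
    have : g * w' * g⁻¹ = g * w * g⁻¹ := e'
    rw [mul_left_inj, mul_right_inj] at this
    rwa [← this]
  -- an element of `W` fixing a further point and centralizing two involutions is central in `M`
  have hz : ∀ g, g ∉ InvolRankOne.M P → ∀ z ∈ W P,
      z ∈ (InvolRankOne.M P).map (MulAut.conj g).toMonoidHom →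
      (W P).map (MulAut.conj g).toMonoidHom ≤ centralizer ({z} : Set G) := by
    intro g hg z hzW hzg
    obtain ⟨m, hm, e'⟩ := hzg
    have e'' : g * m * g⁻¹ = z := e'
    have hmW : m ∈ W P := hmemW m hm (by
      have : g * m ^ 15 * g⁻¹ = 1 := by rw [← conj_pow, e'', hW15 z hzW]
      rwa [conj_eq_one_iff] at this)
    rintro _ ⟨w, hw, rfl⟩
    refine mem_centralizer_singleton_iff.2 ?_
    show g * w * g⁻¹ * z = z * (g * w * g⁻¹)
    rw [← e'', show g * w * g⁻¹ * (g * m * g⁻¹) = g * (w * m) * g⁻¹ by group, hWab w hw m hmW]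
    group
  have hzM : ∀ g, g ∉ InvolRankOne.M P → ∀ z ∈ W P,
      z ∈ (InvolRankOne.M P).map (MulAut.conj g).toMonoidHom →
      ∀ a ∈ (P : Subgroup G), ∀ b ∈ (P : Subgroup G), a ≠ 1 → b ≠ 1 → a ≠ b →
      a * z = z * a → b * z = z * b → InvolRankOne.M P ≤ centralizer ({z} : Set G) := by
    intro g hg z hzW hzg a ha b hb ha1 hb1 hab hza hzb
    rcases S.le_M_or_M_le hMt hp hT (K := centralizer ({z} : Set G))
      (fun w hw => mem_centralizer_singleton_iff.2 (hWab w hw z hzW)) ha ha1 hb hb1 hab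
      (mem_centralizer_singleton_iff.2 hza) (mem_centralizer_singleton_iff.2 hzb) with h | h
    · exact absurd h (hconjM g hg _ (hz g hg z hzW hzg))
    · exact h
  obtain ⟨g₀, hg₀⟩ : ∃ g : G, g ∉ InvolRankOne.M P := by
    by_contra h
    push Not at h
    exact hMt (eq_top_iff.2 fun g _ => h g)
  have hcent : ∀ {K : Subgroup G} {z : G}, z ∈ centralizer (K : Set G) →
      ∀ k ∈ K, k * z = z * k := fun hz k hk => mem_centralizer_iff.1 hz k hk
  -- some element of `W` is moved by `P`
  by_cases hWP : W P ≤ centralizer ((P : Subgroup G) : Set G)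
  swap
  · haveI : IsMulCommutative (P : Subgroup G) := ⟨⟨fun a b => Subtype.ext (S.comm a.2 b.2)⟩⟩
    obtain ⟨B, hB, ⟨a₁, ha₁, hBa⟩, hBnot⟩ : ∃ B ≤ (P : Subgroup G),
        (∃ a ∈ (P : Subgroup G), B ⊔ zpowers a = (P : Subgroup G)) ∧
        ¬ W P ⊓ centralizer (B : Set G) ≤ centralizer ((P : Subgroup G) : Set G) := by
      by_contra h
      push Not at h
      refine hWP (Coprime.le_of_forall_cyclic_quotient
        (le_normalizer.trans S.N_le_normalizer_W) ?_ h)
      rw [← hqdef, hk]
      exact (Nat.coprime_two_left.2 S.W_odd).pow_left k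
    obtain ⟨x₁, hx₁, hx₁T⟩ := Set.not_subset.1 hBnot
    obtain ⟨hx₁W, hx₁B⟩ := mem_inf.1 hx₁
    have hBne : B ≠ (P : Subgroup G) := fun h => hx₁T (h ▸ hx₁B)
    have hBcard : q ≤ 2 * Nat.card B := by
      have hnb : zpowers a₁ ≤ normalizer (B : Set G) := fun x hx =>
        centralizer_le_normalizer _ (mem_centralizer_iff.2 fun y hy =>
          S.comm (hB hy) (zpowers_le.2 ha₁ hx))
      have h : Nat.card (B ⊔ zpowers a₁ : Subgroup G) ≤ Nat.card (B × zpowers a₁) := by
        refine Nat.card_le_card_of_surjective (fun p =>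
          (⟨p.1 * p.2, mul_mem (mem_sup_left p.1.2) (mem_sup_right p.2.2)⟩ :
            (B ⊔ zpowers a₁ : Subgroup G))) ?_
        rintro ⟨t, ht⟩
        rw [← SetLike.mem_coe, coe_mul_of_right_le_normalizer_left _ _ hnb] at ht
        obtain ⟨w, hw, x, hx, rfl⟩ := ht
        exact ⟨(⟨w, hw⟩, ⟨x, hx⟩), rfl⟩
      rw [hBa, Nat.card_prod, ← hqdef, Nat.card_zpowers] at h
      refine h.trans ?_
      rw [mul_comm 2]
      exact Nat.mul_le_mul_left _ (Nat.le_of_dvd two_pos (orderOf_dvd_of_pow_eq_one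
        (by rw [pow_two, S.sq a₁ ha₁])))
    obtain ⟨b₀, hb₀, hb₀1⟩ : ∃ b ∈ B, b ≠ 1 := by
      by_contra h
      push Not at h
      rw [(eq_bot_iff_forall B).2 h, card_bot] at hBcard
      omega
    obtain ⟨m, hm, b₁, hb₁, hmb⟩ : ∃ m ∈ normalizer ((P : Subgroup G) : Set G),
        ∃ b ∈ B, m * b * m⁻¹ ∉ B := by
      by_contra h
      push Not at h
      refine hBne (le_antisymm hB fun x hx => ?_)
      by_cases hx1 : x = 1
      · rw [hx1]; exact one_mem _
      obtain ⟨n', hn', rfl⟩ := hT b₀ (hB hb₀) hb₀1 x hx hx1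
      exact h n' hn' b₀ hb₀
    set B₂ := B.map (MulAut.conj m).toMonoidHom
    have hB₂ : B₂ ≤ (P : Subgroup G) := by
      rintro _ ⟨b, hb, rfl⟩
      exact (mem_normalizer_iff.1 hm b).1 (hB hb)
    have hB₂card : Nat.card B₂ = Nat.card B := card_map_of_injective (MulEquiv.injective _)
    have hsup : B ⊔ B₂ = (P : Subgroup G) := by
      refine eq_of_le_of_card_ge (sup_le hB hB₂) ?_
      obtain ⟨c, hc⟩ := card_dvd_of_le (le_sup_left : B ≤ B ⊔ B₂)
      rw [← hqdef]
      have h1 : Nat.card (B ⊔ B₂ : Subgroup G) ≠ Nat.card B := fun h => hmb (by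
        have h2 := eq_of_le_of_card_ge (le_sup_left : B ≤ B ⊔ B₂) h.le
        exact h2.ge (mem_sup_right ⟨b₁, hb₁, rfl⟩))
      have hc2 : 2 ≤ c := by
        rcases c with _ | _ | c
        · have : 0 < Nat.card (B ⊔ B₂ : Subgroup G) := Nat.card_pos
          omega
        · omega
        · omega
      rw [hc]
      refine hBcard.trans ?_
      rw [mul_comm 2]
      exact Nat.mul_le_mul_left _ hc2
    set x₂ := m * x₁ * m⁻¹
    have hx₂W : x₂ ∈ W P := (mem_normalizer_iff.1 (S.N_le_normalizer_W hm) x₁).1 hx₁W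
    have hx₂B : x₂ ∈ centralizer (B₂ : Set G) := by
      refine mem_centralizer_iff.2 ?_
      rintro _ ⟨b, hb, rfl⟩
      show m * b * m⁻¹ * (m * x₁ * m⁻¹) = m * x₁ * m⁻¹ * (m * b * m⁻¹)
      rw [show m * b * m⁻¹ * (m * x₁ * m⁻¹) = m * (b * x₁) * m⁻¹ by group,
        hcent hx₁B b hb]
      group
    have hx₂T : x₂ ∉ centralizer ((P : Subgroup G) : Set G) := fun h => hx₁T (by
      refine mem_centralizer_iff.2 fun t ht => ?_
      have h' := mem_centralizer_iff.1 h (m * t * m⁻¹) ((mem_normalizer_iff.1 hm t).1 ht)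
      have := congrArg (fun s => m⁻¹ * s * m) h'
      simpa [x₂, mul_assoc] using this)
    -- two involutions in `B ⊓ B₂`
    have hbig : 4 ≤ Nat.card (B ⊓ B₂ : Subgroup G) := by
      have h1 : ∀ C : Subgroup G, C ≤ (P : Subgroup G) → q ≤ 2 * Nat.card C →
          C.relIndex (P : Subgroup G) ≤ 2 := fun C hC h => by
        have h2 : Nat.card C * C.relIndex (P : Subgroup G) = q := by
          rw [relIndex, ← Nat.card_congr (subgroupOfEquivOfLe hC).toEquiv, card_mul_index]
        by_contra hlt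
        have := Nat.mul_le_mul_left (Nat.card C) (show 3 ≤ C.relIndex (P : Subgroup G) by omega)
        have : 0 < Nat.card C := Nat.card_pos
        omega
      have h3 : (B ⊓ B₂).relIndex (P : Subgroup G) ≤ 2 * 2 :=
        relIndex_inf_le.trans (Nat.mul_le_mul (h1 B hB hBcard) (h1 B₂ hB₂ (hB₂card ▸ hBcard)))
      have h4 : Nat.card (B ⊓ B₂ : Subgroup G) * (B ⊓ B₂).relIndex (P : Subgroup G) = q := by
        rw [relIndex, ← Nat.card_congr (subgroupOfEquivOfLe (inf_le_left.trans hB)).toEquiv,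
          card_mul_index]
      by_contra hlt
      have := Nat.mul_le_mul (show Nat.card (B ⊓ B₂ : Subgroup G) ≤ 3 by omega) h3
      omega
    obtain ⟨a, ha, ha1, b, hb, hb1, hab⟩ : ∃ a ∈ B ⊓ B₂, a ≠ 1 ∧ ∃ b ∈ B ⊓ B₂, b ≠ 1 ∧ a ≠ b := by
      by_contra hno
      push Not at hno
      obtain ⟨a, ha, ha1⟩ : ∃ a ∈ B ⊓ B₂, a ≠ 1 := by
        by_contra h
        push Not at h
        rw [(eq_bot_iff_forall _).2 h, card_bot] at hbig
        omega
      have hsub : (Finset.univ.filter fun t : G => t ∈ B ⊓ B₂) ⊆ {1, a} := fun t ht => by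
        by_cases ht1 : t = 1
        · simp [ht1]
        · simp [hno a ha ha1 t (Finset.mem_filter.1 ht).2 ht1]
      have hc := (Finset.card_le_card hsub).trans Finset.card_le_two
      rw [← Fintype.card_subtype, ← Nat.card_eq_fintype_card] at hc
      omega
    obtain ⟨haB, haB₂⟩ := mem_inf.1 ha
    obtain ⟨hbB, hbB₂⟩ := mem_inf.1 hb
    have hkey : ∀ z ∈ W P, z ∈ (InvolRankOne.M P).map (MulAut.conj g₀).toMonoidHom →
        a * z = z * a → b * z = z * b → z ∈ centralizer ((P : Subgroup G) : Set G) :=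
      fun z hzW hzg hza hzb => mem_centralizer_iff.2 fun t ht =>
        mem_centralizer_singleton_iff.1 (hzM g₀ hg₀ z hzW hzg a (hB haB) b (hB hbB) ha1 hb1 hab
          hza hzb (S.P_le_M ht))
    obtain ⟨hDn, hDi⟩ := hDg g₀ hg₀
    haveI := hDn
    have hx₁D : (⟨x₁, hx₁W⟩ : W P) ∉ Dg g₀ := fun h =>
      hx₁T (hkey x₁ hx₁W h (hcent hx₁B a haB) (hcent hx₁B b hbB))
    have hne1 : ((⟨x₁, hx₁W⟩ : W P) : W P ⧸ Dg g₀) ≠ 1 := fun h =>
      hx₁D ((QuotientGroup.eq_one_iff _).1 h)
    obtain ⟨i, hi⟩ : ∃ i : ℤ, ((⟨x₁, hx₁W⟩ : W P) : W P ⧸ Dg g₀) ^ i =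
        ((⟨x₂, hx₂W⟩ : W P) : W P ⧸ Dg g₀) := by
      have hprime : ((Dg g₀).index).Prime := by
        rcases hDi with h | h | h
        · exact absurd (index_eq_one.1 h ▸ mem_top _) hx₁D
        all_goals rw [h]; norm_num
      haveI : Fact (Dg g₀).index.Prime := ⟨hprime⟩
      exact mem_zpowers_iff.1 (mem_zpowers_of_prime_card (p := (Dg g₀).index)
        (by rw [index_eq_card]) hne1)
    set z := (⟨x₁, hx₁W⟩ : W P) ^ (-i) * ⟨x₂, hx₂W⟩
    have hzD : z ∈ Dg g₀ := by
      rw [← QuotientGroup.eq_one_iff, QuotientGroup.mk_mul, QuotientGroup.mk_zpow, ← hi, ← zpow_add,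
        neg_add_cancel, zpow_zero]
    have hzc : ∀ t ∈ B ⊓ B₂, t * (z : G) = (z : G) * t := fun t ht => by
      have e1 : Commute t x₁ := hcent hx₁B t (mem_inf.1 ht).1
      have e2 : Commute t x₂ := hcent hx₂B t (mem_inf.1 ht).2
      show t * ((x₁ ^ (-i)) * x₂) = x₁ ^ (-i) * x₂ * t
      exact ((e1.zpow_right (-i)).mul_right e2).eq
    have hzP := hkey (z : G) z.2 hzD (hzc a ha) (hzc b hb)
    refine hx₂T ?_
    rw [← hsup]
    refine mem_centralizer_iff.2 fun t ht => ?_
    have hle : B ⊔ B₂ ≤ centralizer ({x₂} : Set G) := by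
      refine sup_le (fun t ht => mem_centralizer_singleton_iff.2 ?_) fun t ht =>
        mem_centralizer_singleton_iff.2 (hcent hx₂B t ht)
      have e1 : Commute t x₁ := hcent hx₁B t ht
      have e2 : Commute t (z : G) := mem_centralizer_iff.1 hzP t (hB ht)
      have e3 : x₂ = x₁ ^ i * (z : G) := by
        show x₂ = x₁ ^ i * (x₁ ^ (-i) * x₂)
        group
      rw [e3]
      exact ((e1.zpow_right i).mul_right e2).eq
    exact mem_centralizer_singleton_iff.1 (hle ht)
  -- `P` centralizes `W`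
  obtain ⟨a₀, ha₀, ha₀1⟩ := S.exists_mem_ne_one
  obtain ⟨b₀, hb₀, hb₀1, hab₀⟩ : ∃ b ∈ (P : Subgroup G), b ≠ 1 ∧ a₀ ≠ b := by
    by_contra hno
    push Not at hno
    have hsub : (Finset.univ.filter fun t : G => t ∈ (P : Subgroup G)) ⊆ {1, a₀} := fun t ht => by
      by_cases ht1 : t = 1
      · simp [ht1]
      · simp [hno t (Finset.mem_filter.1 ht).2 ht1]
    have hc := (Finset.card_le_card hsub).trans Finset.card_le_two
    rw [← Fintype.card_subtype, ← Nat.card_eq_fintype_card] at hc
    omega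
  have hDM : ∀ g, g ∉ InvolRankOne.M P → ∀ z ∈ W P,
      z ∈ (InvolRankOne.M P).map (MulAut.conj g).toMonoidHom →
      InvolRankOne.M P ≤ centralizer ({z} : Set G) := fun g hg z hzW hzg =>
    hzM g hg z hzW hzg a₀ ha₀ b₀ hb₀ ha₀1 hb₀1 hab₀ (hcent (hWP hzW) a₀ ha₀) (hcent (hWP hzW) b₀ hb₀)
  -- `M` centralizes `W`
  have hMW : InvolRankOne.M P ≤ centralizer (W P : Set G) := by
    have hCW : centralizer ((P : Subgroup G) : Set G) ≤ centralizer (W P : Set G) := by
      refine (centralizer_le (Set.singleton_subset_iff.2 ha₀)).trans ((S.cent_le_sup ha₀ ha₀1).trans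
        (sup_le (fun x hx => mem_centralizer_iff.2 fun w hw => hWab w hw x hx)
          fun x hx => mem_centralizer_iff.2 fun w hw => (hcent (hWP hw) x hx).symm))
    refine sup_le (fun x hx => mem_centralizer_iff.2 fun w hw => hWab w hw x hx) fun m hm => ?_
    refine mem_centralizer_iff.2 fun w hw => ?_
    obtain ⟨hDn, hDi⟩ := hDg g₀ hg₀
    haveI := hDn
    set C := centralizer ((P : Subgroup G) : Set G)
    set N := normalizer ((P : Subgroup G) : Set G)
    have hme : m ^ e ∈ C := by
      haveI : (C.subgroupOf N).Normal :=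
        normal_subgroupOf_of_le_normalizer (BrauerPairs.normalizer_le_normalizer_centralizer _)
      have := pow_index_mem (C.subgroupOf N) (⟨m, hm⟩ : N)
      exact mem_subgroupOf.1 this
    have hmWP : ∀ {v : G}, v ∈ W P → m * v * m⁻¹ ∈ W P := fun hv =>
      (mem_normalizer_iff.1 (S.N_le_normalizer_W hm) _).1 hv
    have hDfix : ∀ {v : W P}, v ∈ Dg g₀ → m * (v : G) * m⁻¹ = v := fun {v} hv => by
      have h1 := mem_centralizer_singleton_iff.1
        (hDM g₀ hg₀ v v.2 hv (S.prime_M_eq ▸ S.toPrime.N_le_M hm))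
      rw [h1, mul_inv_cancel_right]
    -- conjugation on the quotient
    let σ : W P → W P := fun v => ⟨m * v * m⁻¹, hmWP v.2⟩
    have hσD : ∀ v v' : W P, (v : W P ⧸ Dg g₀) = (v' : W P ⧸ Dg g₀) →
        (σ v : W P ⧸ Dg g₀) = (σ v' : W P ⧸ Dg g₀) := fun v v' h => by
      have h1 := QuotientGroup.eq.1 h
      refine QuotientGroup.eq.2 ?_
      have h2 := hDfix h1
      have : (σ v)⁻¹ * σ v' = v⁻¹ * v' := Subtype.ext (by
        refine Eq.trans ?_ h2
        push_cast
        simp only [σ]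
        group)
      rwa [this]
    let τ : W P ⧸ Dg g₀ → W P ⧸ Dg g₀ := fun t => Quotient.liftOn' t
      (fun v => (σ v : W P ⧸ Dg g₀)) fun v v' h => hσD v v' (Quotient.sound' h)
    have hτ : ∀ v : W P, τ v = (σ v : W P ⧸ Dg g₀) := fun v => rfl
    have hiter : ∀ (j : ℕ) (v : W P), τ^[j] (v : W P ⧸ Dg g₀) =
        ((⟨m ^ j * v * (m ^ j)⁻¹, (mem_normalizer_iff.1
          (pow_mem (S.N_le_normalizer_W hm) j) _).1 v.2⟩ : W P) : W P ⧸ Dg g₀) := by
      intro j
      induction j with
      | zero => intro v; simp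
      | succ j ih =>
        intro v
        rw [Function.iterate_succ_apply', ih, hτ]
        refine congrArg _ (Subtype.ext ?_)
        simp only [σ]
        rw [pow_succ' m j]
        group
    have hτe : τ^[e] = id := funext fun t => by
      obtain ⟨v, rfl⟩ := QuotientGroup.mk_surjective t
      rw [hiter]
      refine congrArg _ (Subtype.ext ?_)
      show m ^ e * (v : G) * (m ^ e)⁻¹ = v
      rw [← mem_centralizer_iff.1 (hCW hme) v v.2, mul_inv_cancel_right]
    let π : Equiv.Perm (W P ⧸ Dg g₀) :=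
      { toFun := τ
        invFun := τ^[e - 1]
        left_inv := fun t => by
          show τ^[e - 1] (τ t) = t
          rw [← Function.iterate_succ_apply, show (e - 1).succ = e by omega, hτe, id]
        right_inv := fun t => by
          show τ (τ^[e - 1] t) = t
          exact (Function.iterate_succ_apply' τ (e - 1) t).symm.trans
            (by rw [show (e - 1).succ = e by omega, hτe]; rfl) }
    have hπe : π ^ e = 1 := Equiv.ext fun t => by
      rw [← Equiv.Perm.iterate_eq_pow, show ⇑π = τ from rfl, hτe]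
      rfl
    have hπ1 : π = 1 := by
      haveI := Fintype.ofFinite (W P ⧸ Dg g₀)
      rcases (Nat.dvd_prime hp).1 (orderOf_dvd_of_pow_eq_one hπe) with h | h
      · exact orderOf_eq_one_iff.1 h
      · exfalso
        have h1 := orderOf_dvd_card (x := π)
        rw [h, Fintype.card_perm] at h1
        have h2 := hp.dvd_factorial.1 h1
        rw [← Nat.card_eq_fintype_card, ← index_eq_card] at h2
        omega
    have hquot : (σ ⟨w, hw⟩ : W P ⧸ Dg g₀) = ((⟨w, hw⟩ : W P) : W P ⧸ Dg g₀) := by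
      rw [← hτ]
      exact DFunLike.congr_fun hπ1 ((⟨w, hw⟩ : W P) : W P ⧸ Dg g₀)
    set d := (⟨w, hw⟩ : W P)⁻¹ * σ ⟨w, hw⟩
    have hd : d ∈ Dg g₀ := QuotientGroup.eq.1 hquot.symm
    have hmw : m * w * m⁻¹ = w * d := by simp [d, σ]
    have hpowj : ∀ j : ℕ, m ^ j * w * (m ^ j)⁻¹ = w * (d : G) ^ j := by
      intro j
      induction j with
      | zero => simp
      | succ j ih =>
        rw [pow_succ' m j, show m * m ^ j * w * (m * m ^ j)⁻¹ = m * (m ^ j * w * (m ^ j)⁻¹) * m⁻¹ by
          group, ih, show m * (w * (d : G) ^ j) * m⁻¹ = m * w * m⁻¹ * (m * (d : G) * m⁻¹) ^ j by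
          rw [conj_pow]; group, hDfix hd, hmw, mul_assoc, ← pow_succ']
    have hde : (d : G) ^ e = 1 := by
      have := hpowj e
      rwa [← mem_centralizer_iff.1 (hCW hme) w hw, mul_inv_cancel_right, left_eq_mul] at this
    have hd1 : (d : G) = 1 := by
      refine orderOf_eq_one_iff.1 (Nat.eq_one_of_dvd_coprimes (a := e) (b := 15) ?_
        (orderOf_dvd_of_pow_eq_one hde) (orderOf_dvd_of_pow_eq_one (hW15 _ d.2)))
      rw [Nat.Prime.coprime_iff_not_dvd hp]
      intro h
      have := Nat.le_of_dvd (by norm_num) h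
      omega
    rw [hd1, mul_one, mul_inv_eq_iff_eq_mul] at hmw
    exact hmw.symm
  have hcentM : ∀ z ∈ W P, InvolRankOne.M P ≤ centralizer ({z} : Set G) := fun z hz m hm =>
    mem_centralizer_singleton_iff.2 (mem_centralizer_iff.1 (hMW hm) z hz).symm
  -- no element of `W` fixes a further point
  have hfree : ∀ g, g ∉ InvolRankOne.M P → Dg g = ⊥ := by
    intro g hg
    refine (eq_bot_iff_forall _).2 fun v hv => Subtype.ext ?_
    have hK : InvolRankOne.M P ≤ centralizer ({(v : G)} : Set G) := hcentM v v.2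
    have htop := hsplit _ hK fun h => hconjM g hg _ (hz g hg v v.2 hv) h.le
    have hn : (zpowers (v : G)).Normal := ⟨fun x hx y => by
      obtain ⟨i, rfl⟩ := mem_zpowers_iff.1 hx
      have hy : y * (v : G) = (v : G) * y :=
        mem_centralizer_singleton_iff.1 (htop.ge (mem_top y))
      rw [((show Commute y (v : G) from hy).zpow_right i).eq, mul_inv_cancel_right]
      exact hx⟩
    have h1 : zpowers (v : G) = ⊥ := hO _ hn (by
      rw [Nat.card_zpowers]
      exact S.W_odd.of_dvd_nat ((W P).orderOf_dvd_natCard v.2))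
    exact zpowers_eq_bot.1 h1
  set p := Nat.card (W P) with hpdef
  obtain ⟨hp35, hpprime⟩ : (p = 3 ∨ p = 5) ∧ p.Prime := by
    have h := (hDg g₀ hg₀).2
    rw [hfree g₀ hg₀, index_bot, ← hpdef] at h
    have : p ≠ 1 := fun h1 => hW (card_eq_one.1 h1)
    rcases h with h | h | h
    · omega
    · exact ⟨Or.inl h, by rw [h]; norm_num⟩
    · exact ⟨Or.inr h, by rw [h]; norm_num⟩
  haveI : Fact p.Prime := ⟨hpprime⟩
  have hnp : n ≡ 1 [MOD p] := by
    haveI := Fintype.ofFinite (G ⧸ InvolRankOne.M P)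
    have h := (IsPGroup.of_card (n := 1) (show Nat.card (W P) = p ^ 1 by rw [pow_one])).card_modEq_card_fixedPoints
      (G ⧸ InvolRankOne.M P)
    rw [← index_eq_card, ← hndef] at h
    refine h.trans ?_
    rw [Nat.card_eq_one_iff_unique.2 ⟨⟨fun x y => Subtype.ext ?_⟩,
      ⟨⟨((1 : G) : G ⧸ InvolRankOne.M P), fun w => QuotientGroup.eq.2 (by
        simpa using inv_mem (show (w : G) ∈ InvolRankOne.M P from mem_sup_left w.2))⟩⟩⟩]
    · have hfix : ∀ c : MulAction.fixedPoints (W P) (G ⧸ InvolRankOne.M P),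
          (c : G ⧸ InvolRankOne.M P) = ((1 : G) : G ⧸ InvolRankOne.M P) := by
        rintro ⟨c, hc⟩
        obtain ⟨g, rfl⟩ := QuotientGroup.mk_surjective c
        refine QuotientGroup.eq.2 ?_
        rw [mul_one, inv_mem_iff]
        by_contra hg
        refine hW ((eq_bot_iff_forall _).2 fun w hw => ?_)
        have h1 : (((w * g : G)) : G ⧸ InvolRankOne.M P) = (g : G ⧸ InvolRankOne.M P) := hc ⟨w, hw⟩
        have h2 : (⟨w, hw⟩ : W P) ∈ Dg g := ⟨g⁻¹ * (w * g), QuotientGroup.eq.1 h1.symm, by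
          show g * (g⁻¹ * (w * g)) * g⁻¹ = w
          group⟩
        rw [hfree g hg, mem_bot] at h2
        exact congrArg Subtype.val h2
      rw [hfix x, hfix y]
  have hWM : W P ≤ InvolRankOne.M P := le_sup_left
  have hcardM : Nat.card (InvolRankOne.M P) = p * q * e := by
    rw [← S.prime_M_eq, S.toPrime.card_M, S.toPrime.card_H, S.prime_W_eq]
  have hWidx : (W P).index = n * (q * e) := by
    have h := card_mul_index (W P)
    rw [← card_mul_index (InvolRankOne.M P), hcardM, ← hndef, ← hpdef] at h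
    refine Nat.eq_of_mul_eq_mul_left hpprime.pos ?_
    rw [h]; ring
  have hqe : Nat.Coprime p (q * e) := by
    refine Nat.Coprime.mul_right ?_ ?_
    · rw [hk]
      refine Nat.Coprime.pow_right k (Nat.coprime_two_right.2 ?_)
      rcases hp35 with h | h <;> rw [h] <;> decide
    · rw [Nat.coprime_primes hpprime hp]
      rcases hp35 with h | h <;> omega
  have hpidx : Nat.Coprime p (W P).index := by
    rw [hWidx]
    refine Nat.Coprime.mul_right ?_ hqe
    rw [Nat.Prime.coprime_iff_not_dvd hpprime]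
    intro hd
    rw [Nat.ModEq, Nat.dvd_iff_mod_eq_zero.1 hd, Nat.mod_eq_of_lt hpprime.one_lt] at hnp
    omega
  let Q : Sylow p G := (IsPGroup.of_card (n := 1) (show Nat.card (W P) = p ^ 1 by rw [pow_one])).toSylow
    ((Nat.Prime.coprime_iff_not_dvd hpprime).1 hpidx)
  obtain ⟨R, K, hKn, hc⟩ := Transfer.hasNormalPComplement_of_normalizer_le_centralizer Q (by
    show normalizer (W P : Set G) ≤ centralizer (W P : Set G)
    rw [hNW]
    exact hMW)
  haveI := hKn
  haveI := Fintype.ofFinite K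
  have hKidx : K.index = p := by
    have h1 : Nat.card (R : Subgroup G) = p := by
      rw [R.card_eq_multiplicity, ← Q.card_eq_multiplicity]
      rfl
    rw [hc.symm.index_eq_card, h1]
  have hKcard : Nat.card K = n * (q * e) := by
    have h1 := card_mul_index K
    rw [hKidx, ← card_mul_index (W P), hWidx, ← hpdef] at h1
    exact Nat.eq_of_mul_eq_mul_right hpprime.pos (h1.trans (mul_comm _ _))
  have hPK : (P : Subgroup G) ≤ K := fun x hx => by
    rw [← QuotientGroup.eq_one_iff]
    refine orderOf_eq_one_iff.1 (Nat.eq_one_of_dvd_coprimes hqe.coprime_mul_right_right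
      ?_ (orderOf_map_dvd (QuotientGroup.mk' K) x |>.trans ?_))
    · rw [← hKidx, index_eq_card]; exact orderOf_dvd_natCard _
    · exact Subgroup.orderOf_dvd_natCard _ hx
  have hWK : ∀ x ∈ W P, x ∈ K → x = 1 := fun x hx hxK =>
    orderOf_eq_one_iff.1 (Nat.eq_one_of_dvd_coprimes (hWidx ▸ hpidx)
      ((W P).orderOf_dvd_natCard hx) (hKcard ▸ K.orderOf_dvd_natCard hxK))
  let PK : Sylow 2 K := P.subtype hPK
  have hncyc : ¬ IsCyclic (PK : Subgroup K) := fun h => by
    haveI : IsCyclic ((P : Subgroup G).subgroupOf K) := h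
    haveI := isCyclic_of_surjective _ (subgroupOfEquivOfLe hPK).surjective
    obtain ⟨z, hz⟩ := IsCyclic.exists_generator (α := (P : Subgroup G))
    have h1 : q ≤ 2 := by
      rw [hqdef, ← Nat.card_congr (Equiv.subtypeUnivEquiv hz), Nat.card_zpowers]
      exact Nat.le_of_dvd two_pos (orderOf_dvd_of_pow_eq_one (Subtype.ext (by
        rw [pow_two]; exact S.sq z z.2)))
    omega
  have hnn : ¬ (PK : Subgroup K).Normal := fun hn => by
    refine hg₀ (S.prime_M_eq ▸ S.toPrime.N_le_M ?_)
    have hgP : ((g₀ • P : Sylow 2 G) : Subgroup G) ≤ K := by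
      rintro _ ⟨x, hx, rfl⟩
      exact hKn.conj_mem x (hPK hx) g₀
    haveI := hn
    haveI := Sylow.unique_of_normal PK hn
    have : (g₀ • P : Sylow 2 G).subtype hgP = PK := Subsingleton.elim _ _
    exact Sylow.smul_eq_iff_mem_normalizer.mp (Sylow.subtype_injective this)
  have hC : ∀ t : K, orderOf t = 2 → IsMulCommutative (centralizer ({t} : Set K)) ∧
      ∀ c ∈ centralizer ({t} : Set K), c ^ 2 = 1 := by
    intro t ht
    obtain ⟨R', hR'⟩ := (IsPGroup.of_card (n := 1) (by
      rw [Nat.card_zpowers, ht, pow_one]) : IsPGroup 2 (zpowers t)).exists_le_sylow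
    obtain ⟨g, hg⟩ := MulAction.exists_smul_eq K R' PK
    have ha : (g : G) * t * (g : G)⁻¹ ∈ (P : Subgroup G) := by
      have h1 : (MulAut.conj g) t ∈ ((g • R' : Sylow 2 K) : Subgroup K) :=
        ⟨t, hR' (mem_zpowers t), rfl⟩
      rw [hg] at h1
      exact h1
    have ha1 : (g : G) * t * (g : G)⁻¹ ≠ 1 := fun h => by
      have : t = 1 := Subtype.ext (by simpa using conj_eq_one_iff.1 h)
      rw [this, orderOf_one] at ht
      exact absurd ht (by norm_num)
    have hmem : ∀ c ∈ centralizer ({t} : Set K), (g : G) * c * (g : G)⁻¹ ∈ (P : Subgroup G) := by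
      intro c hc
      have hc1 : (c : G) * t = t * c := congrArg Subtype.val (mem_centralizer_singleton_iff.1 hc)
      have hc2 : (g : G) * c * (g : G)⁻¹ ∈ centralizer ({(g : G) * t * (g : G)⁻¹} : Set G) := by
        rw [mem_centralizer_singleton_iff,
          show (g : G) * c * (g : G)⁻¹ * ((g : G) * t * (g : G)⁻¹) =
            (g : G) * ((c : G) * t) * (g : G)⁻¹ by group, hc1]
        group
      obtain ⟨y, hy, x, hx, hyx⟩ := S.exists_decomp ha ha1 hc2
      have hyK : y ∈ K := by
        have h1 : y = (g : G) * c * (g : G)⁻¹ * x⁻¹ := by rw [← hyx, mul_inv_cancel_right]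
        rw [h1]
        exact mul_mem (mul_mem (mul_mem g.2 c.2) (inv_mem g.2)) (inv_mem (hPK hx))
      rw [← hyx, hWK y (S.O_le_W ha ha1 hy) hyK, one_mul]
      exact hx
    refine ⟨⟨⟨fun c c' => Subtype.ext (Subtype.ext ?_)⟩⟩, fun c hc => Subtype.ext ?_⟩
    · have h := S.comm (hmem c c.2) (hmem c' c'.2)
      push_cast
      have h' := congrArg (fun s => (g : G)⁻¹ * s * g) h
      simpa [mul_assoc] using h'
    · have h := S.sq _ (hmem c hc)
      rw [← pow_two, conj_pow, conj_eq_one_iff] at h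
      push_cast
      exact h
  obtain ⟨F, hF, hFf, hFcard, ⟨φ⟩⟩ := S1230.result PK hncyc hnn hC
  have hFq : Fintype.card F = q := hFcard.trans (Nat.card_congr (subgroupOfEquivOfLe hPK).toEquiv)
  have hk0 : k ≠ 0 := fun h => by rw [h, pow_zero] at hk; omega
  haveI : CharP F 2 := by
    obtain ⟨r, hr⟩ := CharP.exists F
    haveI := hr
    obtain ⟨i, hpp, hi⟩ := FiniteField.card F r
    have h2 : (2 : ℕ) ∣ r ^ (i : ℕ) := hi ▸ hFq ▸ hk ▸ dvd_pow_self 2 hk0
    have : 2 = r := (Nat.prime_dvd_prime_iff_eq Nat.prime_two hpp).1 (Nat.prime_two.dvd_of_dvd_pow h2)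
    exact this ▸ hr
  have hbot : Subgroup.center (Matrix.SpecialLinearGroup (Fin 2) F) = ⊥ := by
    refine eq_bot_iff.2 fun x hx => mem_bot.2 ?_
    rcases PSL2.mem_center_iff_pm.1 hx with h | h
    · exact h
    · rw [h]
      apply Matrix.SpecialLinearGroup.ext
      intro i j
      fin_cases i <;> fin_cases j <;> simp [CharTwo.neg_eq]
  have hcard := Nat.card_congr
    (φ.trans ((QuotientGroup.quotientMulEquivOfEq hbot).trans QuotientGroup.quotientBot)).toEquiv
  rw [PSL2.card_SL, hFq, hKcard] at hcard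
  have hn : n = q + 1 := by
    have h1 : q ^ 2 - 1 = (q + 1) * e := by
      have h2 : q ^ 2 = (q + 1) * e + 1 := by rw [← he]; ring
      omega
    rw [h1] at hcard
    refine Nat.eq_of_mul_eq_mul_right (Nat.mul_pos (show 0 < q by omega) hp.pos) ?_
    rw [hcard]; ring
  exact hW (S.W_eq_bot_of_index_le hO hMt (by rw [← hndef, ← hqdef, hn]; omega))

end Setup

end Cfsg.Agent.InvolRankOne
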