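import Cfsg.Agent.Lib.PrimeInertia.Free
import Cfsg.Agent.Lib.InvolRankOne.Main

/-!
# An automizer of prime order on an abelian Sylow 2-subgroup

Transfer splits off the fixed group `F` of the normalizer in `P`: the kernel `K` has index `|F|`,
its Sylow subgroup `P ⊓ K` has a free automizer of the same order, and its principal block has the
same number of irreducible Brauer characters.
-/

set_option autoImplicit false
set_option linter.style.haveILetI false
set_option linter.unusedSectionVars false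

namespace Cfsg.Agent.PrimeInertia

open Cfsg Subgroup
open scoped Classical Cfsg.Agent.Blocks

universe u

variable {G : Type u} [Group G] {P : Sylow 2 G}

/-- An element of the normalizer outside the centralizer fixes only what the normalizer fixes. -/
theorem mem_centralizer_normalizer (hp : (ind P).Prime) {n z : G}
    (hn : n ∈ normalizer ((P : Subgroup G) : Set G))
    (hnC : n ∉ centralizer ((P : Subgroup G) : Set G)) (hz : z ∈ (P : Subgroup G))
    (hnz : n * z = z * n) :
    z ∈ centralizer (normalizer ((P : Subgroup G) : Set G) : Set G) := by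
  set N := normalizer ((P : Subgroup G) : Set G)
  set C := centralizer ((P : Subgroup G) : Set G)
  let S : Subgroup N := (centralizer ({z} : Set G)).subgroupOf N
  have hCS : C.subgroupOf N ≤ S := fun c hc =>
    mem_subgroupOf.2 (mem_centralizer_singleton_iff.2 (mem_centralizer_iff.1 hc z hz).symm)
  refine mem_centralizer_iff.2 fun m hm => ?_
  have h1 : S.index ∣ ind P := index_dvd_of_le hCS
  rcases (Nat.dvd_prime hp).1 h1 with h | h
  · exact mem_centralizer_singleton_iff.1
      (mem_subgroupOf.1 ((index_eq_one.1 h).ge (mem_top (⟨m, hm⟩ : N))))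
  · exfalso
    have h2 := relIndex_mul_index hCS
    rw [h, show (C.subgroupOf N).index = ind P from rfl] at h2
    have h3 := relIndex_eq_one.1 (Nat.eq_of_mul_eq_mul_right hp.pos (h2.trans (one_mul _).symm))
    exact hnC (mem_subgroupOf.1 (h3 (show (⟨n, hn⟩ : N) ∈ S from
      mem_subgroupOf.2 (mem_centralizer_singleton_iff.2 hnz))))

variable [Fintype G] [Fact (Nat.Prime 2)]

/-- An element of a normal subgroup `K` normalizing `P ⊓ K` acts on it as an element of `N(P)`. -/
theorem exists_normalizer_act (hab : ∀ a ∈ (P : Subgroup G), ∀ b ∈ (P : Subgroup G), a * b = b * a)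
    {K : Subgroup G} [K.Normal] {a : G}
    (ha : ∀ t, t ∈ (P : Subgroup G) ⊓ K → a * t * a⁻¹ ∈ (P : Subgroup G) ⊓ K)
    (ha' : ∀ t, t ∈ (P : Subgroup G) ⊓ K → a⁻¹ * t * a ∈ (P : Subgroup G) ⊓ K) :
    ∃ n ∈ normalizer ((P : Subgroup G) : Set G),
      ∀ t ∈ (P : Subgroup G) ⊓ K, n * t * n⁻¹ = a * t * a⁻¹ := by
  set Rg := (P : Subgroup G) ⊓ K
  have hPRg : (P : Subgroup G) ≤ centralizer (Rg : Set G) := fun t ht =>
    mem_centralizer_iff.2 fun s hs => hab s hs.1 t ht
  have haP : ((a • P : Sylow 2 G) : Subgroup G) ≤ centralizer (Rg : Set G) := by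
    rintro _ ⟨t, ht, rfl⟩
    refine mem_centralizer_iff.2 fun s hs => ?_
    have h := mem_centralizer_iff.1 (hPRg ht) _ (ha' s hs)
    show s * (a * t * a⁻¹) = a * t * a⁻¹ * s
    calc s * (a * t * a⁻¹) = a * ((a⁻¹ * s * a) * t) * a⁻¹ := by group
      _ = a * (t * (a⁻¹ * s * a)) * a⁻¹ := by rw [h]
      _ = a * t * a⁻¹ * s := by group
  obtain ⟨c, hc⟩ := MulAction.exists_smul_eq (centralizer (Rg : Set G)) (P.subtype hPRg)
    ((a • P : Sylow 2 G).subtype haP)
  rw [Sylow.smul_subtype] at hc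
  have h1 : (c : G) • P = a • P := Sylow.subtype_injective hc
  refine ⟨(c : G)⁻¹ * a,
    Sylow.smul_eq_iff_mem_normalizer.mp (by rw [mul_smul, ← h1, inv_smul_smul]), fun t ht => ?_⟩
  calc (c : G)⁻¹ * a * t * ((c : G)⁻¹ * a)⁻¹ = (c : G)⁻¹ * ((a * t * a⁻¹) * c) := by group
    _ = (c : G)⁻¹ * ((c : G) * (a * t * a⁻¹)) := by rw [mem_centralizer_iff.1 c.2 _ (ha t ht)]
    _ = a * t * a⁻¹ := by group

variable {M : Ideal AlgInt} [M.IsMaximal]

/-- The principal block of `G` over a normal subgroup of 2-power index. -/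
theorem principal_of_index (hM : IsPModular 2 M)
    (hab : ∀ a ∈ (P : Subgroup G), ∀ b ∈ (P : Subgroup G), a * b = b * a)
    (K : Subgroup G) [K.Normal] [Fintype K] (hK : ∃ k, K.index = 2 ^ k) :
    Nat.card (principalBlock M G) = K.index * Nat.card (principalBlock M K) ∧
      blockRank 2 (principalBlock M G) = blockRank 2 (principalBlock M K) := by
  haveI : CharP (AlgInt ⧸ M) 2 := Blocks.charP_residue hM.2.2
  obtain ⟨hmax, -⟩ := InvolRankOne.principal_isMax (M := M) P
  have hB := BrauerPairs.isPBlock_principalBlock (M := M) (G := G)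
  have hb := BrauerPairs.isPBlock_principalBlock (M := M) (G := K)
  have hstab : ∀ g : G, StabilizesBlock K (principalBlock M K) g := fun g => by
    have hgN : g ∈ normalizer (K : Set G) := normalizer_eq_top_iff.2 ‹K.Normal› ▸ mem_top g
    rw [BrauerPairs.stabilizesBlock_iff hb hgN]
    have h1 := (BrauerPairs.isPrincipal_blk (M := M) K).conj g
    rw [BrauerPairs.map_conj_eq_of_mem_normalizer hgN] at h1
    exact h1.eq (BrauerPairs.isPrincipal_blk (M := M) K)
  have hcov : ∃ χ ∈ principalBlock M G, ∃ θ ∈ principalBlock M K,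
      classInner (fun n : K => (χ : G → ℂ) n) (θ : K → ℂ) ≠ 0 := by
    refine ⟨Char.trivialChar G, BrauerPairs.trivialChar_mem_principalBlock, Char.trivialChar K,
      BrauerPairs.trivialChar_mem_principalBlock, ?_⟩
    rw [show (fun n : K => (Char.trivialChar G : IrrCharacter G).1 n) = (Char.trivialChar K).1 from
      funext fun n => by simp, Char.classInner_irr_self (Char.trivialChar K).2]
    exact one_ne_zero
  exact (S4640.result 2 M hM K hK _ hb hstab _ hB hcov (P : Subgroup G)
    (BrauerPairs.isDefectGroup_of_isMax hB hmax) hab).2.2.2.2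

/-- The counts for an automizer of prime order. -/
theorem counts_of_prime (hM : IsPModular 2 M)
    (hab : ∀ a ∈ (P : Subgroup G), ∀ b ∈ (P : Subgroup G), a * b = b * a) (hp : (ind P).Prime) :
    blockRank 2 (principalBlock M G) = ind P ∧
      (¬ Group.IsSolvable G → Nat.card (principalBlock M G) = Nat.card (P : Subgroup G)) := by
  set N := normalizer ((P : Subgroup G) : Set G) with hN
  set C := centralizer ((P : Subgroup G) : Set G) with hC
  set F := (P : Subgroup G) ⊓ centralizer (N : Set G) with hFdef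
  have hcomm : IsMulCommutative (P : Subgroup G) :=
    ⟨⟨fun a b => Subtype.ext (hab a a.2 b b.2)⟩⟩
  obtain ⟨φ, hφ⟩ := Transfer.exists_surjective_inf_centralizer_normalizer P hcomm
  set K := φ.ker with hKdef
  haveI := Fintype.ofFinite K
  have hKidx : K.index = Nat.card F := by
    rw [index_ker, MonoidHom.range_eq_top_of_surjective φ hφ, card_top]
    rfl
  obtain ⟨k, hk⟩ := IsPGroup.iff_card.1 P.2
  obtain ⟨j, -, hj⟩ := (Nat.dvd_prime_pow Nat.prime_two).1
    (hk ▸ card_dvd_of_le inf_le_left : Nat.card F ∣ 2 ^ k)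
  obtain ⟨hkG, hlG⟩ := principal_of_index hM hab K ⟨j, hKidx.trans hj⟩
  -- `F` is a complement of `K`
  have hFcomm : commutator G ≤ K := by
    rw [_root_.commutator_def, Subgroup.commutator_le]
    intro a _ b _
    refine MonoidHom.mem_ker.2 ?_
    rw [map_commutatorElement, commutatorElement_eq_one_iff_commute]
    exact Subtype.ext (hab _ (φ a).2.1 _ (φ b).2.1)
  have hdec : ∀ t ∈ (P : Subgroup G), ∃ c ∈ F, c⁻¹ * t ∈ K := fun t ht => by
    obtain ⟨c, hc, hct⟩ := Transfer.exists_mem_centralizer_normalizer_mul_focal P hcomm ht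
    exact ⟨c, hc, hFcomm ((P : Subgroup G).focalSubgroup_le_commutator hct)⟩
  have hsur : Function.Surjective fun c : F => φ (c : G) := by
    intro w
    obtain ⟨a', ha'⟩ := hφ w
    have hmap : (P : Subgroup G).map φ = ⊤ := by
      rw [← index_eq_one]
      refine Nat.eq_one_of_dvd_coprimes (a := 2 ^ j) ?_ ?_ ((P : Subgroup G).index_map_dvd hφ)
      · exact ((Nat.Prime.coprime_iff_not_dvd Nat.prime_two).2 P.not_dvd_index).pow_left j
      · rw [← hj]; exact index_dvd_card _
    obtain ⟨s, hs, hsz⟩ : φ a' ∈ (P : Subgroup G).map φ := hmap ▸ mem_top _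
    obtain ⟨c', hc', hct⟩ := hdec s hs
    refine ⟨⟨c', hc'⟩, ?_⟩
    show φ c' = w
    rw [← ha', ← hsz]
    rwa [MonoidHom.mem_ker, map_mul, map_inv, inv_mul_eq_one] at hct
  have hFK : ∀ t ∈ F, t ∈ K → t = 1 := by
    intro t htF htK
    have h := (Finite.injective_iff_surjective.2 hsur) (a₁ := ⟨t, htF⟩) (a₂ := 1) (by
      show φ t = φ ((1 : F) : G)
      rw [OneMemClass.coe_one, map_one]
      exact MonoidHom.mem_ker.1 htK)
    exact congrArg Subtype.val h
  have hGFK : ∀ a : G, ∃ c ∈ F, c⁻¹ * a ∈ K := fun a => by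
    obtain ⟨c, hc⟩ := hsur (φ a)
    exact ⟨c, c.2, by rw [MonoidHom.mem_ker, map_mul, map_inv, show φ (c : G) = φ a from hc,
      inv_mul_cancel]⟩
  set Rg := (P : Subgroup G) ⊓ K with hRgdef
  set R := (P : Subgroup G).subgroupOf K with hRdef
  have hmulcard : Nat.card R * K.index = Nat.card (P : Subgroup G) := by
    have h2 : Nat.card R = Nat.card Rg := by
      rw [hRdef, ← Nat.card_congr (subgroupOfEquivOfLe (inf_le_right : Rg ≤ K)).toEquiv,
        inf_subgroupOf_right]
    have h3 : K.relIndex (P : Subgroup G) = K.index := by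
      rw [← relIndex_sup_right (H := (P : Subgroup G)) (K := K)]
      have : (P : Subgroup G) ⊔ K = ⊤ := by
        refine eq_top_iff.2 fun a _ => ?_
        obtain ⟨c, hc, hca⟩ := hGFK a
        have : a = c * (c⁻¹ * a) := by group
        rw [this]
        exact mul_mem (mem_sup_left hc.1) (mem_sup_right hca)
      rw [this, relIndex_top_right]
    rw [h2, ← h3, hRgdef, ← inf_relIndex_right, inf_comm K,
      ← Nat.card_congr (subgroupOfEquivOfLe (inf_le_left : (P : Subgroup G) ⊓ K ≤ P)).toEquiv]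
    exact card_mul_index _
  have hRpg : IsPGroup 2 R := P.2.comap_of_injective K.subtype Subtype.val_injective
  have hRidx : ¬ 2 ∣ R.index := by
    have hG := (P : Subgroup G).card_mul_index
    rw [← card_mul_index K, ← R.card_mul_index, ← hmulcard] at hG
    have hpos : 0 < Nat.card R * K.index := by
      rw [hmulcard]; exact Nat.card_pos
    rw [show R.index = (P : Subgroup G).index from Nat.eq_of_mul_eq_mul_left hpos (by linarith)]
    exact P.not_dvd_index
  let RS : Sylow 2 K := hRpg.toSylow hRidx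
  have hRS : (RS : Subgroup K) = R := rfl
  have hRab : ∀ a ∈ (RS : Subgroup K), ∀ b ∈ (RS : Subgroup K), a * b = b * a :=
    fun a ha b hb => Subtype.ext (hab _ (mem_subgroupOf.1 ha) _ (mem_subgroupOf.1 hb))
  -- a point moved by everything outside `C`
  obtain ⟨z₀, hz₀, hz₀1⟩ : ∃ z ∈ Rg, z ≠ 1 := by
    by_contra h
    push Not at h
    refine hp.ne_one (relIndex_eq_one.2 fun g hg => mem_centralizer_iff.2 fun t ht => ?_)
    obtain ⟨c, hc, hct⟩ := hdec t ht
    have htc : t = c := by
      have := h _ (mem_inf.2 ⟨mul_mem (inv_mem hc.1) ht, hct⟩)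
      exact (inv_mul_eq_one.1 this).symm
    rw [htc]
    exact (mem_centralizer_iff.1 hc.2 g hg).symm
  have hfix : ∀ {n z : G}, n ∈ N → z ∈ Rg → z ≠ 1 → n * z = z * n → n ∈ C := by
    intro n z hn hz hz1 hnz
    by_contra hnC
    exact hz1 (hFK _ ⟨hz.1, mem_centralizer_normalizer hp hn hnC hz.1 hnz⟩ hz.2)
  set NK := normalizer ((RS : Subgroup K) : Set K) with hNK
  set CK := centralizer ((RS : Subgroup K) : Set K) with hCK
  have hact : ∀ a : NK, ∃ n : N, ∀ t ∈ Rg,
      (n : G) * t * (n : G)⁻¹ = ((a : K) : G) * t * ((a : K) : G)⁻¹ := by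
    intro a
    obtain ⟨n, hn, h⟩ := exists_normalizer_act hab (K := K) (a := ((a : K) : G))
      (fun t ht => mem_inf.2 ⟨mem_subgroupOf.1
        ((mem_normalizer_iff.1 a.2 ⟨t, ht.2⟩).1 (mem_subgroupOf.2 ht.1)),
        mul_mem (mul_mem (a : K).2 ht.2) (inv_mem (a : K).2)⟩)
      (fun t ht => mem_inf.2 ⟨mem_subgroupOf.1
        ((mem_normalizer_iff''.1 a.2 ⟨t, ht.2⟩).1 (mem_subgroupOf.2 ht.1)),
        mul_mem (mul_mem (inv_mem (a : K).2) ht.2) (a : K).2⟩)
    exact ⟨⟨n, hn⟩, h⟩
  have hact' : ∀ n : N, ∃ a : NK, ∀ t ∈ Rg,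
      ((a : K) : G) * t * ((a : K) : G)⁻¹ = (n : G) * t * (n : G)⁻¹ := by
    intro n
    obtain ⟨c, hc, hcn⟩ := hGFK n
    have hcN : c ∈ N := le_normalizer hc.1
    have hkN : c⁻¹ * (n : G) ∈ N := mul_mem (inv_mem hcN) n.2
    refine ⟨⟨⟨_, hcn⟩, ?_⟩, fun t ht => ?_⟩
    · refine mem_normalizer_iff.2 fun x => ?_
      show (x : G) ∈ (P : Subgroup G) ↔ (c⁻¹ * (n : G)) * x * (c⁻¹ * (n : G))⁻¹ ∈ (P : Subgroup G)
      exact mem_normalizer_iff.1 hkN x
    · show c⁻¹ * (n : G) * t * (c⁻¹ * (n : G))⁻¹ = _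
      have h1 := hab _ ((mem_normalizer_iff.1 n.2 t).1 ht.1) c hc.1
      calc c⁻¹ * (n : G) * t * (c⁻¹ * (n : G))⁻¹
          = c⁻¹ * ((n : G) * t * (n : G)⁻¹ * c) := by group
        _ = (n : G) * t * (n : G)⁻¹ := by rw [h1]; group
  have hCKiff : ∀ a : K, a ∈ CK ↔ ∀ t ∈ Rg, (a : G) * t * (a : G)⁻¹ = t := by
    intro a
    constructor
    · intro ha t ht
      have h := congrArg Subtype.val
        (mem_centralizer_iff.1 ha ⟨t, ht.2⟩ (mem_subgroupOf.2 ht.1))
      rw [mul_inv_eq_iff_eq_mul]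
      exact h.symm
    · intro ha
      refine mem_centralizer_iff.2 fun t ht => Subtype.ext ?_
      exact (mul_inv_eq_iff_eq_mul.1 (ha t ⟨mem_subgroupOf.1 ht, t.2⟩)).symm
  have hfreeK : ∀ g ∈ NK, ∀ z ∈ (RS : Subgroup K), z ≠ 1 → g * z = z * g → g ∈ CK := by
    intro a ha z hz hz1 haz
    obtain ⟨n, hn⟩ := hact ⟨a, ha⟩
    have hzR : (z : G) ∈ Rg := ⟨mem_subgroupOf.1 hz, z.2⟩
    have haz' : (a : G) * z * (a : G)⁻¹ = z := mul_inv_eq_iff_eq_mul.2 (congrArg Subtype.val haz)
    have hnC := hfix n.2 hzR (fun h => hz1 (Subtype.ext h))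
      (mul_inv_eq_iff_eq_mul.1 ((hn z hzR).trans haz'))
    refine (hCKiff a).2 fun t ht => ?_
    rw [← hn t ht, ← mem_centralizer_iff.1 hnC t ht.1, mul_inv_cancel_right]
  -- the automizers have the same order
  have hind : ind RS = ind P := by
    choose f hf using hact
    choose f' hf' using hact'
    refine le_antisymm ?_ ?_
    · rw [ind, ind, relIndex, relIndex, index_eq_card, index_eq_card]
      refine Nat.card_le_card_of_injective
        (fun q => ((f q.out : N) : N ⧸ C.subgroupOf N)) fun q q' h => ?_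
      have h' := mem_subgroupOf.1 (QuotientGroup.eq.1 h)
      rw [← Quotient.out_eq q, ← Quotient.out_eq q']
      refine QuotientGroup.eq.2 (mem_subgroupOf.2 ((hCKiff _).2 fun t ht => ?_))
      push_cast
      have h1 := mem_centralizer_iff.1 h' t ht.1
      push_cast at h1
      have h2 : (f q.out : G) * t * (f q.out : G)⁻¹ = (f q'.out : G) * t * (f q'.out : G)⁻¹ := by
        calc (f q.out : G) * t * (f q.out : G)⁻¹
            = (f q.out : G) * (t * ((f q.out : G)⁻¹ * (f q'.out : G))) * (f q'.out : G)⁻¹ := by group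
          _ = (f q'.out : G) * t * (f q'.out : G)⁻¹ := by rw [h1]; group
      rw [hf _ t ht, hf _ t ht] at h2
      calc _ = ((q.out : K) : G)⁻¹ * (((q'.out : K) : G) * t * ((q'.out : K) : G)⁻¹) *
            ((q.out : K) : G) := by group
        _ = t := by rw [← h2]; group
    · rw [ind, ind, relIndex, relIndex, index_eq_card, index_eq_card]
      refine Nat.card_le_card_of_injective
        (fun q => ((f' q.out : NK) : NK ⧸ CK.subgroupOf NK)) fun q q' h => ?_
      have h' := (hCKiff _).1 (mem_subgroupOf.1 (QuotientGroup.eq.1 h)) z₀ hz₀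
      push_cast at h'
      rw [← Quotient.out_eq q, ← Quotient.out_eq q']
      refine QuotientGroup.eq.2 (mem_subgroupOf.2
        (hfix (q.out⁻¹ * q'.out).2 hz₀ hz₀1 (mul_inv_eq_iff_eq_mul.1 ?_)))
      push_cast
      calc (q.out : G)⁻¹ * (q'.out : G) * z₀ * ((q.out : G)⁻¹ * (q'.out : G))⁻¹
          = (q.out : G)⁻¹ * ((q'.out : G) * z₀ * (q'.out : G)⁻¹) * (q.out : G) := by group
        _ = (q.out : G)⁻¹ * ((q.out : G) * z₀ * (q.out : G)⁻¹) * (q.out : G) := by
          rw [← hf' _ z₀ hz₀, ← hf' _ z₀ hz₀]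
          congr 2
          conv_rhs => rw [← h']
          group
        _ = z₀ := by group
  obtain ⟨h1, h2⟩ := card_of_free_prime hM hRab hfreeK (hind ▸ hp)
  refine ⟨by rw [hlG, h1, hind], fun hns => ?_⟩
  rw [hkG, h2 ?_, hRS, mul_comm, hmulcard]
  intro hsol
  refine hns ?_
  haveI := hsol
  haveI : Group.IsNilpotent F := (P.2.to_le inf_le_left).isNilpotent
  exact Group.isSolvable_of_ker_le_range K.subtype φ (by simp [hKdef])

end Cfsg.Agent.PrimeInertia
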