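import Cfsg.Agent.Lib.InvolRankOne.Setup
import Cfsg.Agent.S1225
import Cfsg.Agent.S0224

/-!
# An abelian Sylow 2-subgroup with a free automizer

As in `InvolRankOne.Setup`, but the Sylow subgroup need not be elementary: the cores of the
centralizers of its involutions generate a subgroup `W` of odd order, and `W ⊔ N(P)` is strongly
embedded unless it is the whole group.
-/

set_option autoImplicit false
set_option linter.style.haveILetI false
set_option linter.unusedSectionVars false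

namespace Cfsg.Agent.PrimeInertia

open Cfsg Subgroup
open scoped Pointwise Classical

universe u

variable {G : Type u} [Group G]

/-- The core of the centralizer of `a`. -/
abbrev O (a : G) : Subgroup G := centralizerPPrimeCore 2 a

/-- The subgroup generated by the involutions of `P`. -/
def omega (P : Sylow 2 G) : Subgroup G :=
  closure {t : G | t ∈ (P : Subgroup G) ∧ t * t = 1}

/-- The index of `C(P)` in `N(P)`. -/
noncomputable def ind (P : Sylow 2 G) : ℕ :=
  (centralizer ((P : Subgroup G) : Set G)).relIndex (normalizer ((P : Subgroup G) : Set G))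

/-- An abelian Sylow 2-subgroup with a free automizer, with at least seven involutions. -/
structure Setup (P : Sylow 2 G) : Prop where
  comm : ∀ a ∈ (P : Subgroup G), ∀ b ∈ (P : Subgroup G), a * b = b * a
  free : ∀ g ∈ normalizer ((P : Subgroup G) : Set G), ∀ x ∈ (P : Subgroup G), x ≠ 1 →
    g * x = x * g → g ∈ centralizer ((P : Subgroup G) : Set G)
  big : 8 ≤ Nat.card (omega P)

/-- The subgroup generated by the cores. -/
noncomputable def W (P : Sylow 2 G) : Subgroup G :=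
  ⨆ a : {a : G // a ∈ omega P ∧ a ≠ 1}, O (a : G)

/-- The subgroup generated by the cores and the normalizer. -/
noncomputable def M (P : Sylow 2 G) : Subgroup G :=
  W P ⊔ normalizer ((P : Subgroup G) : Set G)

variable {P : Sylow 2 G}

theorem omega_le : omega P ≤ (P : Subgroup G) := (closure_le _).2 fun _ h => h.1

theorem mem_omega_of_sq {t : G} (ht : t ∈ (P : Subgroup G)) (h : t * t = 1) : t ∈ omega P :=
  subset_closure ⟨ht, h⟩

theorem mem_omega_of_orderOf {t : G} (ht : t ∈ (P : Subgroup G)) (h : orderOf t = 2) :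
    t ∈ omega P :=
  mem_omega_of_sq ht (by rw [← pow_two, ← h, pow_orderOf_eq_one])

theorem omega_conj_mem {n : G} (hn : n ∈ normalizer ((P : Subgroup G) : Set G)) {t : G}
    (ht : t ∈ omega P) : n * t * n⁻¹ ∈ omega P := by
  suffices h : omega P ≤ (omega P).comap (MulAut.conj n).toMonoidHom from h ht
  refine (closure_le _).2 fun s hs => subset_closure ⟨(mem_normalizer_iff.1 hn s).1 hs.1, ?_⟩
  show n * s * n⁻¹ * (n * s * n⁻¹) = 1
  rw [show n * s * n⁻¹ * (n * s * n⁻¹) = n * (s * s) * n⁻¹ by group, hs.2]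
  group

/-- A nontrivial subgroup of a 2-group contains an involution. -/
theorem exists_involution_of_ne_bot [Finite G] {H : Subgroup G} (hH : H ≤ (P : Subgroup G))
    (h1 : H ≠ ⊥) : ∃ t ∈ H, orderOf t = 2 := by
  haveI : Fact (Nat.Prime 2) := ⟨Nat.prime_two⟩
  obtain ⟨k, hk⟩ := IsPGroup.iff_card.1 (P.2.to_le hH)
  have hk0 : k ≠ 0 := fun h => h1 (card_eq_one.1 (by rw [hk, h, pow_zero]))
  obtain ⟨t, ht⟩ := exists_prime_orderOf_dvd_card' (G := H) 2 (hk ▸ dvd_pow_self 2 hk0)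
  exact ⟨t, t.2, by rwa [Subgroup.orderOf_coe]⟩

namespace Setup

variable (S : Setup P)
include S

theorem sq_of_mem_omega {t : G} (ht : t ∈ omega P) : t * t = 1 := by
  let T : Subgroup G :=
    { carrier := {t | t ∈ (P : Subgroup G) ∧ t * t = 1}
      one_mem' := ⟨one_mem _, one_mul 1⟩
      mul_mem' := fun {a b} ha hb => ⟨mul_mem ha.1 hb.1, by
        rw [show a * b * (a * b) = a * (b * a) * b by group, S.comm b hb.1 a ha.1,
          show a * (a * b) * b = (a * a) * (b * b) by group, ha.2, hb.2, one_mul]⟩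
      inv_mem' := fun {a} ha => ⟨inv_mem ha.1, by rw [← mul_inv_rev, ha.2, inv_one]⟩ }
  have h : omega P ≤ T := (closure_le _).2 fun s hs => hs
  exact (h ht).2

theorem orderOf_omega {t : G} (ht : t ∈ omega P) (ht1 : t ≠ 1) : orderOf t = 2 :=
  orderOf_eq_prime (by rw [pow_two]; exact S.sq_of_mem_omega ht) ht1

theorem le_cent {a : G} (ha : a ∈ (P : Subgroup G)) :
    (P : Subgroup G) ≤ centralizer ({a} : Set G) :=
  fun x hx => mem_centralizer_singleton_iff.2 (S.comm x hx a ha)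

theorem P_le_centralizer : (P : Subgroup G) ≤ centralizer ((P : Subgroup G) : Set G) :=
  fun _ hx => mem_centralizer_iff.2 fun _ hy => S.comm _ hy _ hx

theorem hcomm : IsMulCommutative (P : Subgroup G) :=
  ⟨⟨fun a b => Subtype.ext (S.comm a a.2 b b.2)⟩⟩

theorem omega_elem : IsElementaryAbelian 2 (omega P) :=
  ⟨⟨⟨fun a b => Subtype.ext (S.comm a (omega_le a.2) b (omega_le b.2))⟩⟩,
    fun x hx => by rw [pow_two, S.sq_of_mem_omega hx]⟩

variable [Finite G]

theorem hasNormalPComplement {a : G} (ha : a ∈ (P : Subgroup G)) (ha1 : a ≠ 1) :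
    HasNormalPComplement 2 (centralizer ({a} : Set G)) := by
  haveI : Fact (Nat.Prime 2) := ⟨Nat.prime_two⟩
  have hPC := S.le_cent ha
  refine Transfer.hasNormalPComplement_of_normalizer_le_centralizer (P.subtype hPC) fun g hg => ?_
  have hgN : (g : G) ∈ normalizer ((P : Subgroup G) : Set G) := by
    refine mem_normalizer_iff.2 fun x => ⟨fun hx => ?_, fun hx => ?_⟩
    · exact (mem_normalizer_iff.1 hg ⟨x, hPC hx⟩).1 hx
    · have hxC : x ∈ centralizer ({a} : Set G) := by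
        have := mul_mem (mul_mem (inv_mem g.2) (hPC hx)) g.2
        simpa [mul_assoc] using this
      exact (mem_normalizer_iff.1 hg ⟨x, hxC⟩).2 hx
  have hgC := S.free g hgN a ha ha1 (mem_centralizer_singleton_iff.1 g.2)
  exact mem_centralizer_iff.2 fun x hx => Subtype.ext (mem_centralizer_iff.1 hgC x hx)

theorem mem_O_iff {a y : G} (ha : a ∈ (P : Subgroup G)) (ha1 : a ≠ 1) :
    y ∈ O a ↔ y ∈ centralizer ({a} : Set G) ∧ Odd (orderOf y) := by
  haveI : Fact (Nat.Prime 2) := ⟨Nat.prime_two⟩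
  constructor
  · rintro ⟨x, hx, rfl⟩
    refine ⟨x.2, ?_⟩
    rw [Subgroup.coe_subtype, Subgroup.orderOf_coe]
    have h1 : Nat.Coprime (orderOf x) 2 :=
      Nat.Coprime.coprime_dvd_left (Subgroup.orderOf_dvd_natCard _ hx) PCore.coprime_card_pPrimeCore
    exact Nat.coprime_two_right.1 h1
  · rintro ⟨hy, ho⟩
    refine ⟨⟨y, hy⟩, (DefectOne.index_pPrimeCore_of_hasNormalPComplement
      (S.hasNormalPComplement ha ha1)).2 _ ?_, rfl⟩
    rw [Subgroup.orderOf_mk]
    exact fun h => (Nat.not_even_iff_odd.2 ho) (even_iff_two_dvd.2 h)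

theorem O_le {a : G} (_ha : a ∈ (P : Subgroup G)) : O a ≤ centralizer ({a} : Set G) :=
  map_subtype_le _

theorem conj_mem_O {a c y : G} (ha : a ∈ (P : Subgroup G)) (ha1 : a ≠ 1)
    (hc : c ∈ centralizer ({a} : Set G)) (hy : y ∈ O a) : c * y * c⁻¹ ∈ O a := by
  rw [S.mem_O_iff ha ha1] at hy ⊢
  refine ⟨mul_mem (mul_mem hc hy.1) (inv_mem hc), ?_⟩
  rw [← MulAut.conj_apply, MulEquiv.orderOf_eq]
  exact hy.2

theorem C_le_normalizer_O {a : G} (ha : a ∈ (P : Subgroup G)) (ha1 : a ≠ 1) :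
    centralizer ({a} : Set G) ≤ normalizer (O a : Set G) := fun c hc =>
  mem_normalizer_iff.2 fun y => ⟨S.conj_mem_O ha ha1 hc, fun h => by
    simpa [mul_assoc] using S.conj_mem_O ha ha1 (inv_mem hc) h⟩

theorem orderOf_even {x : G} (hx : x ∈ (P : Subgroup G)) (hx1 : x ≠ 1) : ¬ Odd (orderOf x) := by
  haveI : Fact (Nat.Prime 2) := ⟨Nat.prime_two⟩
  obtain ⟨k, hk⟩ := IsPGroup.iff_orderOf.1 P.2 ⟨x, hx⟩
  rw [Subgroup.orderOf_mk] at hk
  rcases Nat.eq_zero_or_pos k with h | h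
  · rw [h, pow_zero] at hk; exact absurd (orderOf_eq_one_iff.1 hk) hx1
  · rw [hk, Nat.not_odd_iff_even]
    exact Nat.even_pow.2 ⟨even_two, h.ne'⟩

theorem O_disjoint_P {a : G} (ha : a ∈ (P : Subgroup G)) (ha1 : a ≠ 1) :
    Disjoint (O a) (P : Subgroup G) := disjoint_def.2 fun {x} hx hxP => by
  by_contra hx1
  exact S.orderOf_even hxP hx1 ((S.mem_O_iff ha ha1).1 hx).2

theorem C_eq {a : G} (ha : a ∈ (P : Subgroup G)) (ha1 : a ≠ 1) :
    centralizer ({a} : Set G) = O a ⊔ (P : Subgroup G) := by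
  haveI : Fact (Nat.Prime 2) := ⟨Nat.prime_two⟩
  have hle : O a ⊔ (P : Subgroup G) ≤ centralizer ({a} : Set G) :=
    sup_le (S.O_le ha) (S.le_cent ha)
  refine (eq_of_le_of_card_ge hle ?_).symm
  have h := (DefectOne.index_pPrimeCore_of_hasNormalPComplement
    (S.hasNormalPComplement ha ha1)).1
  rw [← (P.subtype (S.le_cent ha)).card_eq_multiplicity, Sylow.coe_subtype,
    Nat.card_congr (subgroupOfEquivOfLe (S.le_cent ha)).toEquiv] at h
  rw [← (pPrimeCore 2 (centralizer ({a} : Set G))).card_mul_index, h,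
    ← show Nat.card (O a) = Nat.card (pPrimeCore 2 (centralizer ({a} : Set G))) from
    card_map_of_injective (subtype_injective _), ← Nat.card_prod]
  refine Nat.card_le_card_of_injective
    (fun x => (⟨(x.1 : G) * (x.2 : G), mul_mem (mem_sup_left x.1.2) (mem_sup_right x.2.2)⟩ :
      (O a ⊔ (P : Subgroup G) : Subgroup G))) ?_
  intro x y hxy
  exact mul_injective_of_disjoint (S.O_disjoint_P ha ha1) (congrArg Subtype.val hxy)

theorem sft : ¬ 2 ∣ Nat.card (W P) ∧
    ∀ a ∈ omega P, a ≠ 1 → W P ⊓ centralizer {a} = O a := by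
  haveI : Fact (Nat.Prime 2) := ⟨Nat.prime_two⟩
  have h4 : 2 ^ 2 ≤ Nat.card (omega P) := le_trans (by norm_num) S.big
  have hsolv : ∀ a ∈ omega P, a ≠ 1 →
      Group.IsSolvable (centralizer ({a} : Set G)) := fun a ha ha1 => by
    set C := centralizer ({a} : Set G)
    set N := pPrimeCore 2 C
    haveI : Group.IsSolvable N :=
      S0205.result (Nat.coprime_two_right.1 PCore.coprime_card_pPrimeCore)
    have hidx := (DefectOne.index_pPrimeCore_of_hasNormalPComplement
      (S.hasNormalPComplement (omega_le ha) ha1)).1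
    haveI : Group.IsNilpotent (C ⧸ N) :=
      (IsPGroup.of_card (by rw [← index_eq_card]; exact hidx)).isNilpotent
    exact Group.isSolvable_of_ker_le_range N.subtype (QuotientGroup.mk' N) (by simp)
  have hθ := S1279.result 2 (omega P) S.omega_elem h4 hsolv
  exact SSFT.hasSFT G (omega P) (fun a ha b hb => S.comm a (omega_le ha) b (omega_le hb))
    S.omega_elem.2 (le_trans (by norm_num) S.big) (fun a => centralizerPPrimeCore 2 a)
    hθ.1.1 hθ.1.2.1 hθ.1.2.2.1 hθ.2 hθ.1.2.2.2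

theorem W_odd : Odd (Nat.card (W P)) :=
  Nat.not_even_iff_odd.1 fun h => S.sft.1 (even_iff_two_dvd.1 h)

theorem O_le_W {a : G} (ha : a ∈ (P : Subgroup G)) (ha1 : a ≠ 1) : O a ≤ W P := by
  have hne : zpowers a ≠ ⊥ := fun h => ha1 (zpowers_eq_bot.1 h)
  obtain ⟨t, ht, ht2⟩ := exists_involution_of_ne_bot (zpowers_le.2 ha) hne
  have ht1 : t ≠ 1 := fun h => by rw [h, orderOf_one] at ht2; exact absurd ht2 (by norm_num)
  have htP : t ∈ (P : Subgroup G) := zpowers_le.2 ha ht
  refine le_trans (fun y hy => ?_)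
    (le_iSup (fun b : {b : G // b ∈ omega P ∧ b ≠ 1} => O (b : G))
      ⟨t, mem_omega_of_orderOf htP ht2, ht1⟩)
  obtain ⟨hyC, hyo⟩ := (S.mem_O_iff ha ha1).1 hy
  refine (S.mem_O_iff htP ht1).2 ⟨mem_centralizer_singleton_iff.2 ?_, hyo⟩
  obtain ⟨i, rfl⟩ := mem_zpowers_iff.1 ht
  exact ((show Commute y a from mem_centralizer_singleton_iff.1 hyC).zpow_right i).eq

theorem N_le_normalizer_W :
    normalizer ((P : Subgroup G) : Set G) ≤ normalizer (W P : Set G) := by
  have key : ∀ n ∈ normalizer ((P : Subgroup G) : Set G), ∀ w ∈ W P, n * w * n⁻¹ ∈ W P := by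
    intro n hn w hw
    have h1 : (W P).map (MulAut.conj n).toMonoidHom ≤ W P := by
      rw [W, Subgroup.map_iSup]
      refine iSup_le fun b => le_trans (Signalizer.map_centralizerPPrimeCore (b : G) n) ?_
      exact le_iSup (fun c : {c : G // c ∈ omega P ∧ c ≠ 1} => O (c : G))
        ⟨n * b * n⁻¹, omega_conj_mem hn b.2.1, fun h => b.2.2 (conj_eq_one_iff.1 h)⟩
    exact h1 ⟨w, hw, rfl⟩
  exact fun n hn => mem_normalizer_iff.2 fun w =>
    ⟨key n hn w, fun h => by simpa [mul_assoc] using key n⁻¹ (inv_mem hn) _ h⟩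

theorem N_le_M : normalizer ((P : Subgroup G) : Set G) ≤ M P := le_sup_right

theorem P_le_M : (P : Subgroup G) ≤ M P := le_normalizer.trans le_sup_right

theorem W_le_M : W P ≤ M P := le_sup_left

theorem C_le_WP {a : G} (ha : a ∈ (P : Subgroup G)) (ha1 : a ≠ 1) :
    centralizer ({a} : Set G) ≤ W P ⊔ (P : Subgroup G) := by
  rw [S.C_eq ha ha1]
  exact sup_le_sup_right (S.O_le_W ha ha1) _

theorem C_le_M {a : G} (ha : a ∈ (P : Subgroup G)) (ha1 : a ≠ 1) :
    centralizer ({a} : Set G) ≤ M P :=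
  (S.C_le_WP ha ha1).trans (sup_le le_sup_left S.P_le_M)

theorem M_le_normalizer : M P ≤ normalizer (W P : Set G) :=
  sup_le le_normalizer S.N_le_normalizer_W

theorem exists_mem_omega : ∃ u ∈ omega P, u ≠ 1 := by
  by_contra h
  push Not at h
  have := S.big
  rw [(eq_bot_iff_forall _).2 h, card_bot] at this
  omega

theorem exists_mem_ne_one : ∃ u ∈ (P : Subgroup G), u ≠ 1 := by
  obtain ⟨u, hu, hu1⟩ := S.exists_mem_omega
  exact ⟨u, omega_le hu, hu1⟩

theorem centralizer_P_le : centralizer ((P : Subgroup G) : Set G) ≤ W P ⊔ (P : Subgroup G) := by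
  obtain ⟨u, hu, hu1⟩ := S.exists_mem_ne_one
  exact (centralizer_le (Set.singleton_subset_iff.2 hu)).trans (S.C_le_WP hu hu1)

/-- An involution of `M` is conjugate in `M` to an element of `P`. -/
theorem exists_conj_mem {s : G} (hs : s ∈ M P) (hs2 : orderOf s = 2) :
    ∃ m ∈ M P, m * s * m⁻¹ ∈ omega P ∧ m * s * m⁻¹ ≠ 1 := by
  haveI : Fact (Nat.Prime 2) := ⟨Nat.prime_two⟩
  let P' := P.subtype S.P_le_M
  have hpg : IsPGroup 2 (zpowers (⟨s, hs⟩ : M P)) := IsPGroup.of_card (n := 1) (by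
    rw [Nat.card_zpowers, Subgroup.orderOf_mk, hs2, pow_one])
  obtain ⟨Q, hQ⟩ := hpg.exists_le_sylow
  obtain ⟨m, hm⟩ := MulAction.exists_smul_eq (M P) Q P'
  refine ⟨m, m.2, mem_omega_of_orderOf ?_ ?_, fun h => ?_⟩
  · have h1 : (MulAut.conj m) (⟨s, hs⟩ : M P) ∈ ((m • Q : Sylow 2 (M P)) : Subgroup (M P)) :=
      ⟨⟨s, hs⟩, hQ (mem_zpowers _), rfl⟩
    rw [hm] at h1
    exact h1
  · rw [← MulAut.conj_apply, MulEquiv.orderOf_eq, hs2]
  · rw [conj_eq_one_iff.1 h, orderOf_one] at hs2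
    exact absurd hs2 (by norm_num)

theorem isStronglyEmbedded (hM : M P ≠ ⊤) : IsStronglyEmbedded (M P) := by
  haveI : Fact (Nat.Prime 2) := ⟨Nat.prime_two⟩
  obtain ⟨u, hu, hu1⟩ := S.exists_mem_omega
  have h2 : Even (Nat.card (M P)) := by
    refine even_iff_two_dvd.2 ?_
    rw [← S.orderOf_omega hu hu1]
    exact Subgroup.orderOf_dvd_natCard _ (S.P_le_M (omega_le hu))
  rw [S0223.result (M P) hM h2]
  constructor
  · intro t ht ht2
    obtain ⟨m, hm, hmt, hmt1⟩ := S.exists_conj_mem ht ht2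
    intro c hc
    have hc' : m * c * m⁻¹ ∈ centralizer ({m * t * m⁻¹} : Set G) := by
      rw [mem_centralizer_singleton_iff] at hc ⊢
      calc m * c * m⁻¹ * (m * t * m⁻¹) = m * (c * t) * m⁻¹ := by group
        _ = m * (t * c) * m⁻¹ := by rw [hc]
        _ = m * t * m⁻¹ * (m * c * m⁻¹) := by group
    have := mul_mem (mul_mem (inv_mem hm) (S.C_le_M (omega_le hmt) hmt1 hc')) hm
    simpa [mul_assoc] using this
  · intro t ht s hs ht2 hs2 hts
    obtain ⟨m, hm, hmt, -⟩ := S.exists_conj_mem ht ht2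
    obtain ⟨n, hn, hns, -⟩ := S.exists_conj_mem hs hs2
    obtain ⟨g, hg⟩ := isConj_iff.1 hts
    haveI := S.hcomm
    obtain ⟨w, hw, he⟩ := Sylow.conj_eq_normalizer_conj_of_mem P (m * t * m⁻¹)
      (m * g⁻¹ * n⁻¹) (omega_le hmt) (by
        rw [show (m * g⁻¹ * n⁻¹)⁻¹ * (m * t * m⁻¹) * (m * g⁻¹ * n⁻¹) =
          n * (g * t * g⁻¹) * n⁻¹ by group, hg]
        exact omega_le hns)
    refine ⟨n⁻¹ * w⁻¹ * m, mul_mem (mul_mem (inv_mem hn) (inv_mem (mem_sup_right hw))) hm, ?_⟩
    rw [show n⁻¹ * w⁻¹ * m * t * (n⁻¹ * w⁻¹ * m)⁻¹ =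
      n⁻¹ * (w⁻¹ * (m * t * m⁻¹) * w) * n by group, ← he, ← hg]
    group

/-- An involution of `M` conjugates into `M` only by elements of `M`. -/
theorem mem_of_conj_mem (hM : M P ≠ ⊤) {s g : G} (hs : s ∈ M P) (hs2 : orderOf s = 2)
    (hg : g * s * g⁻¹ ∈ M P) : g ∈ M P := by
  have hSE := S.isStronglyEmbedded hM
  have hfix := (S0224.result (M P) hM hSE.2.1).1 hSE s hs hs2
  have h1 : s • ((1 : G) : G ⧸ M P) = ((1 : G) : G ⧸ M P) := by
    show ((s * 1 : G) : G ⧸ M P) = _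
    exact QuotientGroup.eq.2 (by simpa using inv_mem hs)
  have h2 : s • ((g⁻¹ : G) : G ⧸ M P) = ((g⁻¹ : G) : G ⧸ M P) := by
    show ((s * g⁻¹ : G) : G ⧸ M P) = _
    refine QuotientGroup.eq.2 ?_
    have := inv_mem hg
    simpa [mul_assoc] using this
  haveI := Finite.card_le_one_iff_subsingleton.1 hfix.le
  have h : ((g⁻¹ : G) : G ⧸ M P) = ((1 : G) : G ⧸ M P) := congrArg Subtype.val
    (Subsingleton.elim (⟨_, h2⟩ : {c : G ⧸ M P // s • c = c}) ⟨_, h1⟩)
  simpa using QuotientGroup.eq.1 h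

theorem isConj_involution (hM : M P ≠ ⊤) {a b : G} (ha : orderOf a = 2) (hb : orderOf b = 2) :
    IsConj a b := by
  have hSE := S.isStronglyEmbedded hM
  obtain ⟨u, hu, huM⟩ := Involution.StrongEmb.exists_involution_not_mem hSE
  obtain ⟨s, hs, hs1⟩ := S.exists_mem_omega
  exact (S1225.result _ hSE u huM hu s s (S.orderOf_omega hs hs1) (S.P_le_M (omega_le hs))
    (S.orderOf_omega hs hs1) (S.P_le_M (omega_le hs))).2 a b ha hb

theorem transitive (hM : M P ≠ ⊤) {a b : G} (ha : a ∈ omega P) (ha1 : a ≠ 1) (hb : b ∈ omega P)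
    (hb1 : b ≠ 1) : ∃ n ∈ normalizer ((P : Subgroup G) : Set G), n * a * n⁻¹ = b := by
  obtain ⟨g, hg⟩ := isConj_iff.1 (S.isConj_involution hM (S.orderOf_omega ha ha1) (S.orderOf_omega hb hb1))
  haveI := S.hcomm
  obtain ⟨n, hn, hne⟩ := Sylow.conj_eq_normalizer_conj_of_mem P a g⁻¹ (omega_le ha) (by
    rw [inv_inv, hg]; exact omega_le hb)
  exact ⟨n⁻¹, inv_mem hn, by rw [inv_inv, ← hne, inv_inv, hg]⟩

/-- Without a normal subgroup of odd order, `P` is normal and self-centralizing if `M` is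
everything. -/
theorem normal_of_eq_top (hO : ∀ K : Subgroup G, K.Normal → Odd (Nat.card K) → K = ⊥)
    (hM : M P = ⊤) :
    (P : Subgroup G).Normal ∧ centralizer ((P : Subgroup G) : Set G) = (P : Subgroup G) := by
  have hWn : (W P).Normal := normalizer_eq_top_iff.1 (top_le_iff.1 (hM ▸ S.M_le_normalizer))
  have hW : W P = ⊥ := hO _ hWn S.W_odd
  have hN : normalizer ((P : Subgroup G) : Set G) = ⊤ := by
    rw [← hM, M, hW, bot_sup_eq]
  refine ⟨normalizer_eq_top_iff.1 hN, le_antisymm ?_ S.P_le_centralizer⟩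
  exact S.centralizer_P_le.trans (by rw [hW, bot_sup_eq])

end Setup

end Cfsg.Agent.PrimeInertia
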